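import Groth.Agent.Lib.CanElt.Koszul
import Groth.Agent.Lib.AdicSmooth.PowerSeries
import Groth.Agent.Lib.AdicSmooth.CompleteLift
import Groth.Agent.Lib.AdicSmooth.FieldFS
import Groth.Agent.Lib.VarDim.Alg
import Groth.Agent.Lib.Compl.Dim
import Groth.Agent.Lib.Compl.Complete

/-! Complete local domains of characteristic `p` are finite over power series rings; a killer for
Koszul homology of all powers of a system of parameters. -/

set_option autoImplicit false
set_option linter.style.haveILetI false
universe u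

open IsLocalRing MvPowerSeries

namespace Groth.Agent.CanElt

section PS

variable {d : ℕ} {k : Type u} [CommRing k]

theorem mem_ofList_pow_iff (q : ℕ) : ∀ (l : List (Fin d)) (m : MvPowerSeries (Fin d) k),
    m ∈ Ideal.ofList (l.map fun i => (X i : MvPowerSeries (Fin d) k) ^ q) ↔
      ∀ e : Fin d →₀ ℕ, (∀ i ∈ l, e i < q) → coeff e m = 0
  | [], m => by
    simp only [List.map_nil, Ideal.ofList_nil, Ideal.mem_bot, List.not_mem_nil, false_implies, implies_true,
      true_implies]
    exact ⟨fun h e => by simp [h], fun h => MvPowerSeries.ext fun e => by simpa using h e⟩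
  | i :: l, m => by
    classical
    rw [List.map_cons, Ideal.ofList_cons, Submodule.mem_sup]
    constructor
    · rintro ⟨a, ha, b, hb, rfl⟩ e he
      rw [map_add, (mem_ofList_pow_iff q l b).mp hb e fun j hj => he j (List.mem_cons_of_mem _ hj), add_zero]
      exact (X_pow_dvd_iff.mp (Ideal.mem_span_singleton.mp ha)) e (he i List.mem_cons_self)
    · intro h
      let b : MvPowerSeries (Fin d) k := fun e => if e i < q then coeff e m else 0
      have hb : ∀ e, coeff e b = if e i < q then coeff e m else 0 := fun e => rfl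
      refine ⟨m - b, Ideal.mem_span_singleton.mpr (X_pow_dvd_iff.mpr fun e he => ?_), b,
        (mem_ofList_pow_iff q l b).mpr fun e he => ?_, sub_add_cancel _ _⟩
      · rw [map_sub, hb, if_pos he, sub_self]
      · rw [hb]
        split_ifs with hi
        · exact h e fun j hj => by
            rcases List.mem_cons.mp hj with rfl | hj
            · exact hi
            · exact he j hj
        · rfl

theorem reg_X_pow (q : ℕ) : ∀ l : List (Fin d), l.Nodup →
    Reg (MvPowerSeries (Fin d) k) (MvPowerSeries (Fin d) k) (l.map fun i => X i ^ q)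
  | [], _ => trivial
  | j :: l, h => by
    obtain ⟨hj, hl⟩ := List.nodup_cons.mp h
    refine ⟨reg_X_pow q l hl, fun m hm => ?_⟩
    simp only [smul_eq_mul, Ideal.mul_top, mem_ofList_pow_iff] at hm ⊢
    intro e he
    have := hm (Finsupp.single j q + e) fun i hi => by
      rw [Finsupp.add_apply, Finsupp.single_eq_of_ne (fun hh => hj (by subst hh; exact hi)), zero_add]
      exact he i hi
    rwa [X_pow_eq, coeff_add_monomial_mul, one_mul] at this

end PS

theorem reg_pi {R : Type u} [CommRing R] {n : ℕ} : ∀ l : List R, Reg R R l → Reg R (Fin n → R) l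
  | [], _ => trivial
  | f :: l, ⟨h₁, h₂⟩ => by
    classical
    refine ⟨reg_pi l h₁, fun m hm => ?_⟩
    have hmem : ∀ i, m i ∈ Ideal.ofList l • (⊤ : Submodule R R) := fun i => h₂ _ (by
      have h := Submodule.mem_map_of_mem (f := LinearMap.proj (φ := fun _ : Fin n => R) i) hm
      rw [Submodule.map_smul''] at h
      exact Submodule.smul_mono le_rfl le_top h)
    rw [pi_eq_sum_univ m]
    refine sum_mem fun i _ => Submodule.smul_mem_smul ?_ trivial
    simpa [smul_eq_mul, Ideal.mul_top] using hmem i

/-- A finite torsion free module factors multiplication by some nonzero scalar through a free module. -/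
theorem exists_factor_free {R M : Type u} [CommRing R] [IsDomain R] [AddCommGroup M] [Module R M]
    [Module.Finite R M] :
    ∃ (n : ℕ) (ψ : M →ₗ[R] (Fin n → R)) (χ : (Fin n → R) →ₗ[R] M) (c : R),
      c ≠ 0 ∧ ∀ z, χ (ψ z) = c • z := by
  classical
  obtain ⟨t, g, hg⟩ := Module.Finite.exists_fin (R := R) (M := M)
  obtain ⟨s, hs, hmax⟩ := exists_maximal_linearIndepOn R g
  have hmax' : ∀ i, ∃ a : R, a ≠ 0 ∧ a • g i ∈ Submodule.span R (g '' s) := fun i => by
    by_cases hi : i ∈ s
    · exact ⟨1, one_ne_zero, by simpa using Submodule.subset_span (Set.mem_image_of_mem g hi)⟩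
    · exact hmax i hi
  choose a ha0 ha using hmax'
  have hc : ∀ z, (∏ i, a i) • z ∈ Submodule.span R (g '' s) := by
    intro z
    have hz : z ∈ Submodule.span R (Set.range g) := hg ▸ trivial
    induction hz using Submodule.span_induction with
    | mem x hx =>
      obtain ⟨i, rfl⟩ := hx
      rw [← Finset.prod_erase_mul _ _ (Finset.mem_univ i), mul_smul]
      exact Submodule.smul_mem _ _ (ha i)
    | zero => rw [smul_zero]; exact zero_mem _
    | add x y _ _ hx hy => rw [smul_add]; exact add_mem hx hy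
    | smul r x _ hx => rw [smul_comm]; exact Submodule.smul_mem _ _ hx
  let e := Fintype.equivFin s
  have hli : LinearIndependent R (fun j => g (e.symm j)) := hs.comp _ e.symm.injective
  have hrange : Set.range (fun j => g (e.symm j)) = g '' s := by
    ext y
    constructor
    · rintro ⟨j, rfl⟩; exact ⟨_, (e.symm j).2, rfl⟩
    · rintro ⟨i, hi, rfl⟩; exact ⟨e ⟨i, hi⟩, by simp⟩
  have hc' : ∀ z, (∏ i, a i) • z ∈ Submodule.span R (Set.range fun j => g (e.symm j)) := fun z => hrange ▸ hc z
  refine ⟨_, (Finsupp.linearEquivFunOnFinite R R (Fin (Fintype.card s))).toLinearMap ∘ₗ hli.repr ∘ₗ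
      ((∏ i, a i) • LinearMap.id : M →ₗ[R] M).codRestrict _ hc',
    Fintype.linearCombination R fun j => g (e.symm j), ∏ i, a i,
    Finset.prod_ne_zero_iff.mpr fun i _ => ha0 i, fun z => ?_⟩
  have h := hli.linearCombination_repr ⟨(∏ i, a i) • z, hc' z⟩
  rw [Finsupp.linearCombination_apply, Finsupp.sum_fintype] at h
  · simp only [Fintype.linearCombination_apply, LinearMap.comp_apply]
    exact h
  · exact fun i => zero_smul _ _

theorem ringKrullDim_powerSeries_le (d : ℕ) (k : Type u) [Field k] :
    ringKrullDim (MvPowerSeries (Fin d) k) ≤ d := by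
  have hm : maximalIdeal (MvPowerSeries (Fin d) k) =
      Ideal.span (Set.range fun i : Fin d => (X i : MvPowerSeries (Fin d) k)) := by
    refine le_antisymm (fun f hf => ?_) ?_
    · have := AdicSmooth.mem_pow_of_coeff_eq_zero 1 f fun e he => by
        obtain rfl : e = 0 := (Finsupp.degree_eq_zero_iff e).mp (by omega)
        rw [coeff_zero_eq_constantCoeff_apply]
        by_contra h
        exact hf (MvPowerSeries.isUnit_iff_constantCoeff.mpr (isUnit_iff_ne_zero.mpr h))
      rwa [pow_one] at this
    · rw [Ideal.span_le]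
      rintro _ ⟨i, rfl⟩
      intro h
      have := MvPowerSeries.isUnit_iff_constantCoeff.mp h
      simp at this
  rw [← maximalIdeal_height_eq_ringKrullDim]
  have h1 := (maximalIdeal (MvPowerSeries (Fin d) k)).height_le_spanFinrank (Ideal.IsPrime.ne_top inferInstance)
  have h2 : (maximalIdeal (MvPowerSeries (Fin d) k)).spanFinrank ≤ d := by
    rw [hm]
    refine (Submodule.spanFinrank_span_le_ncard_of_finite (Set.finite_range _)).trans ?_
    rw [← Set.image_univ]
    exact (Set.ncard_image_le).trans (by simp)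
  exact le_trans (WithBot.coe_le_coe.mpr (h1.trans (Nat.cast_le.mpr h2))) le_rfl

/-- Modulo a power of the maximal ideal, a coefficient field spans with finitely many elements. -/
theorem exists_span_add_pow {D K : Type u} [CommRing D] [IsNoetherianRing D] (𝔪 : Ideal D) [CommRing K]
    [Algebra K D] (hK : ∀ z : D, ∃ a : K, z - algebraMap K D a ∈ 𝔪) :
    ∀ n : ℕ, ∃ B : Finset D, ∀ z : D, ∃ w ∈ Submodule.span K (B : Set D), z - w ∈ 𝔪 ^ n := by
  classical
  intro n
  induction n with
  | zero => exact ⟨∅, fun z => ⟨0, zero_mem _, by simp⟩⟩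
  | succ n ih =>
    obtain ⟨B, hB⟩ := ih
    obtain ⟨G, hG⟩ := IsNoetherian.noetherian (𝔪 ^ n)
    have hG' : ∀ g ∈ G, g ∈ 𝔪 ^ n := fun g hg => hG ▸ Submodule.subset_span hg
    refine ⟨B ∪ G, fun z => ?_⟩
    obtain ⟨w, hw, hzw⟩ := hB z
    rw [← hG, Submodule.mem_span_finset] at hzw
    obtain ⟨r, -, hr⟩ := hzw
    choose a ha using hK
    refine ⟨w + ∑ g ∈ G, a (r g) • g, add_mem (Submodule.span_mono (by simp) hw)
      (sum_mem fun g hg => Submodule.smul_mem _ _ (Submodule.subset_span (by simp [hg]))), ?_⟩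
    rw [← sub_sub, ← hr, ← Finset.sum_sub_distrib]
    refine sum_mem fun g hg => ?_
    rw [smul_eq_mul, Algebra.smul_def, ← sub_mul, pow_succ']
    exact Ideal.mul_mem_mul (ha (r g)) (hG' g hg)

theorem exists_killer_of_complete (D : Type u) [CommRing D] [IsDomain D] [IsNoetherianRing D]
    [IsLocalRing D] [IsAdicComplete (maximalIdeal D) D] (p : ℕ) [Fact p.Prime] [CharP D p] (d : ℕ)
    (hd : (d : WithBot ℕ∞) ≤ ringKrullDim D) (y : Fin d → D) (hy : ∀ i, y i ∈ maximalIdeal D) (N : ℕ)
    (hN : maximalIdeal D ^ N ≤ Ideal.span (Set.range y)) :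
    ∃ c : D, c ≠ 0 ∧ ∀ q : ℕ, Killed D D (List.ofFn fun i => y i ^ q) c := by
  classical
  -- coefficient field
  let K := ResidueField D
  let F := ULift.{u} (ZMod p)
  haveI : Finite F := Finite.of_equiv _ (Equiv.ulift.symm : ZMod p ≃ F)
  letI : Algebra F D := ((ZMod.algebra D p).algebraMap.comp (ULift.ringEquiv (R := ZMod p)).toRingHom).toAlgebra
  letI : Algebra F K := ((residue D).comp (algebraMap F D)).toAlgebra
  haveI : Algebra.FormallySmooth F K := FieldFS.formallySmooth_of_perfectField F K
  let u : K →ₐ[F] D ⧸ maximalIdeal D :=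
    { toFun := fun a => a, map_one' := rfl, map_mul' := fun _ _ => rfl, map_zero' := rfl,
      map_add' := fun _ _ => rfl, commutes' := fun _ => rfl }
  obtain ⟨σ, hσ⟩ := AdicSmooth.exists_lift_of_isAdicComplete (maximalIdeal D) u
  letI : Algebra K D := σ.toRingHom.toAlgebra
  have hK : ∀ z : D, ∃ a : K, z - algebraMap K D a ∈ maximalIdeal D := fun z =>
    ⟨residue D z, Ideal.Quotient.eq.mp (hσ (residue D z)).symm⟩
  -- evaluation
  let m := maximalIdeal D
  let R := MvPowerSeries (Fin d) K
  let I : Ideal R := Ideal.span (Set.range X)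
  have hnil : ∀ n i, IsNilpotent (Ideal.Quotient.mk (m ^ n) (y i)) := fun n i =>
    ⟨n, by rw [← map_pow]; exact Ideal.Quotient.eq_zero_iff_mem.mpr (Ideal.pow_mem_pow (hy i) n)⟩
  choose g hgX hgp using fun n => AdicSmooth.exists_algHom_of_isNilpotent (A := K)
    (fun i => Ideal.Quotient.mk (m ^ n) (y i)) (hnil n)
  have hgI : ∀ n, ∀ x ∈ I ^ n, g n x = 0 := by
    intro n x hx
    have h := Ideal.mem_map_of_mem (g n).toRingHom hx
    rw [Ideal.map_pow] at h
    have hle : I.map (g n).toRingHom ≤ m.map (Ideal.Quotient.mk (m ^ n)) := by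
      rw [Ideal.map_le_iff_le_comap, Ideal.span_le]
      rintro _ ⟨i, rfl⟩
      show g n (X i) ∈ m.map (Ideal.Quotient.mk (m ^ n))
      rw [hgX]
      exact Ideal.mem_map_of_mem _ (hy i)
    have := Ideal.pow_right_mono hle n h
    rw [← Ideal.map_pow, Ideal.map_quotient_self] at this
    exact this
  have hcompat : ∀ {a b : ℕ} (hab : a ≤ b), (Ideal.Quotient.factorPow m hab).comp (g b).toRingHom = (g a).toRingHom := by
    intro a b hab
    refine congrArg AlgHom.toRingHom (AdicSmooth.algHom_eq_of_forall_X (I := I) (fun i => Ideal.subset_span ⟨i, rfl⟩)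
      (f := (Ideal.Quotient.factorₐ K (Ideal.pow_le_pow_right hab)).comp (g b)) (g := g a)
      ⟨b, fun x hx => by simp [hgI b x hx]⟩ ⟨a, hgI a⟩ fun i => ?_)
    simp [hgX]
  let φ : R →+* D := IsAdicComplete.liftRingHom m (fun n => (g n).toRingHom) hcompat
  have hφ : ∀ n x, Ideal.Quotient.mk (m ^ n) (φ x) = g n x :=
    fun n x => IsAdicComplete.mk_liftRingHom m _ hcompat n x
  have hext : ∀ {z w : D}, (∀ n, Ideal.Quotient.mk (m ^ n) z = Ideal.Quotient.mk (m ^ n) w) → z = w := by
    intro z w h
    refine sub_eq_zero.mp (IsHausdorff.haus' (I := m) _ fun n => ?_)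
    rw [SModEq.zero, smul_eq_mul, Ideal.mul_top]
    exact Ideal.Quotient.eq.mp (h n)
  have hφX : ∀ i, φ (X i) = y i := fun i => hext fun n => by rw [hφ, hgX]
  have hφC : ∀ a : K, φ (algebraMap K R a) = algebraMap K D a := fun a => hext fun n => by
    rw [hφ, AlgHom.commutes]; rfl
  letI : Algebra R D := φ.toAlgebra
  haveI : IsScalarTower K R D := IsScalarTower.of_algebraMap_eq fun a => (hφC a).symm
  have hID : I.map (algebraMap R D) = Ideal.span (Set.range y) := by
    rw [Ideal.map_span, ← Set.range_comp]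
    exact congrArg _ (congrArg Set.range (funext hφX))
  have hIm : I.map (algebraMap R D) ≤ m := by
    rw [hID, Ideal.span_le]
    rintro _ ⟨i, rfl⟩
    exact hy i
  -- finiteness
  haveI : IsHausdorff I D := ⟨fun z hz => IsHausdorff.haus' (I := m) z fun n => by
    have h := hz n
    rw [SModEq.zero, Ideal.smul_top_eq_map] at h
    rw [SModEq.zero, smul_eq_mul, Ideal.mul_top]
    rw [Submodule.restrictScalars_mem, Ideal.map_pow] at h
    exact Ideal.pow_right_mono hIm n h⟩
  obtain ⟨B, hB⟩ := exists_span_add_pow m hK N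
  haveI : IsAdicComplete I (B → R) := Compl.isAdicComplete_of_finite I _
  let f : (B → R) →ₗ[R] D := Fintype.linearCombination R fun b : B => (b : D)
  have hf : Function.Surjective f := by
    refine surjective_of_mkQ_comp_surjective (I := I) fun z => ?_
    obtain ⟨z, rfl⟩ := Submodule.mkQ_surjective _ z
    obtain ⟨w, hw, hzw⟩ := hB z
    rw [Submodule.mem_span_finset] at hw
    obtain ⟨a, -, rfl⟩ := hw
    refine ⟨fun b => algebraMap K R (a b), (Submodule.Quotient.eq _).mpr ?_⟩
    rw [Ideal.smul_top_eq_map, Submodule.restrictScalars_mem, hID]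
    have e : f (fun b : B => algebraMap K R (a b)) = ∑ b ∈ B, a b • b := by
      rw [Fintype.linearCombination_apply, ← Finset.sum_coe_sort B]
      exact Finset.sum_congr rfl fun b _ => algebraMap_smul R _ _
    rw [e, ← neg_sub]
    exact neg_mem (hN hzw)
  haveI : Module.Finite R D := Module.Finite.of_surjective f hf
  -- injectivity
  haveI : IsDomain R := NoZeroDivisors.to_isDomain R
  have hinj : Function.Injective (algebraMap R D) := by
    rw [RingHom.injective_iff_ker_eq_bot]
    by_contra hne
    obtain ⟨r, hr, hr0⟩ := Submodule.exists_mem_ne_zero_of_ne_bot hne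
    let ker := RingHom.ker (algebraMap R D)
    letI : Algebra (R ⧸ ker) D := (RingHom.kerLift (algebraMap R D)).toAlgebra
    haveI : IsScalarTower R (R ⧸ ker) D := ⟨fun r a z => by
      obtain ⟨a, rfl⟩ := Ideal.Quotient.mk_surjective a
      show algebraMap R D (r * a) * z = algebraMap R D r • (algebraMap R D a * z)
      rw [map_mul, smul_eq_mul, mul_assoc]⟩
    haveI : Module.Finite (R ⧸ ker) D := Module.Finite.of_restrictScalars_finite R _ _
    have h1 : ringKrullDim D = ringKrullDim (R ⧸ ker) :=
      VarDim.ringKrullDim_eq_of_isIntegral (RingHom.kerLift_injective _)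
    have h2 : ringKrullDim (R ⧸ ker) ≤ ringKrullDim (R ⧸ Ideal.span {r}) :=
      ringKrullDim_le_of_surjective (Ideal.Quotient.factor ((Ideal.span_singleton_le_iff_mem (I := ker)).mpr hr))
        (Ideal.Quotient.factor_surjective _)
    have h3 := ringKrullDim_quotient_succ_le_of_nonZeroDivisor (mem_nonZeroDivisors_of_ne_zero hr0)
    have h4 : (d : WithBot ℕ∞) + 1 ≤ d :=
      le_trans (add_le_add_left (hd.trans (h1.le.trans h2)) 1) (h3.trans (ringKrullDim_powerSeries_le d K))
    exact absurd h4 (by exact_mod_cast Nat.not_succ_le_self d)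
  obtain ⟨n, ψ, χ, c, hc, hχ⟩ := exists_factor_free (R := R) (M := D)
  refine ⟨algebraMap R D c, fun h => hc (hinj (h.trans (map_zero _).symm)), fun q => ?_⟩
  have hreg : Reg R (Fin n → R) (List.ofFn fun i : Fin d => (X i : R) ^ q) := by
    refine reg_pi _ ?_
    rw [List.ofFn_eq_map]
    exact reg_X_pow q _ (List.nodup_finRange d)
  let ι : D →ₛₗ[algebraMap R D] D :=
    { toFun := fun z => z
      map_add' := fun _ _ => rfl
      map_smul' := fun r z => Algebra.smul_def r z }
  have := killed_map ι Function.bijective_id (killed_of_factor ψ χ c hχ _ hreg)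
  rw [List.map_ofFn] at this
  convert this using 2
  funext i
  simp only [Function.comp_apply, map_pow]
  exact congrArg (· ^ q) (hφX i).symm

/-- The killer for a Noetherian local ring of characteristic `p`. -/
theorem exists_killer (A : Type u) [CommRing A] [IsNoetherianRing A] [IsLocalRing A]
    (p : ℕ) [Fact p.Prime] [CharP A p] (d : ℕ) (hd : ringKrullDim A = d) (x : Fin d → A)
    (hx : ∀ j, x j ∈ maximalIdeal A) (hsop : IsFiniteLength A (A ⧸ Ideal.span (Set.range x))) :
    ∃ (D : Type u) (_ : CommRing D) (_ : IsDomain D) (_ : IsNoetherianRing D) (_ : CharP D p)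
      (π : A →+* D) (c : D), c ≠ 0 ∧ (maximalIdeal A).map π ≠ ⊤ ∧
      ∀ q : ℕ, Killed D D (List.ofFn fun i => π (x i) ^ q) c := by
  let Ah := AdicCompletion (maximalIdeal A) A
  haveI : IsNoetherianRing Ah := Compl.isNoetherianRing_maximalIdeal_adicCompletion A
  have hdim : ringKrullDim Ah = d := (Compl.ringKrullDim_maximalIdeal_adicCompletion A).trans hd
  obtain ⟨l, hl⟩ := Order.le_krullDim_iff.mp (hdim.ge : (d : WithBot ℕ∞) ≤ Order.krullDim (PrimeSpectrum Ah))
  let P := l.head.asIdeal
  haveI : IsAdicComplete (maximalIdeal Ah) Ah := inferInstance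
  let D := Ah ⧸ P
  haveI : IsLocalRing D := IsLocalRing.of_surjective' _ Ideal.Quotient.mk_surjective
  have hmD : maximalIdeal D = (maximalIdeal Ah).map (Ideal.Quotient.mk P) :=
    (IsLocalRing.map_maximalIdeal_of_surjective _ Ideal.Quotient.mk_surjective).symm
  haveI : IsAdicComplete (maximalIdeal D) D := by
    rw [hmD]
    haveI := Compl.isAdicComplete_of_finite (maximalIdeal Ah) D
    exact (IsAdicComplete.map_algebraMap_iff (maximalIdeal Ah) D).mpr this
  let π : A →+* D := (Ideal.Quotient.mk P).comp (algebraMap A Ah)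
  have hπm : (maximalIdeal A).map π = maximalIdeal D := by
    rw [hmD, AdicCompletion.maximalIdeal_eq_map, Ideal.map_map]
  haveI : CharP D p := by
    refine (CharP.charP_iff_prime_eq_zero Fact.out).mpr ?_
    rw [← map_natCast π, CharP.cast_eq_zero, map_zero]
  have hdD : (d : WithBot ℕ∞) ≤ ringKrullDim D := by
    rw [ringKrullDim_quotient, Order.le_krullDim_iff]
    exact ⟨⟨l.length, fun i => ⟨l i, fun z hz => (LTSeries.head_le l i) hz⟩, fun i => l.step i⟩, hl⟩
  obtain ⟨N, hN⟩ : ∃ N, maximalIdeal A ^ N ≤ Ideal.span (Set.range x) := by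
    let I := Ideal.span (Set.range x)
    haveI : Nontrivial (A ⧸ I) := Ideal.Quotient.nontrivial_iff.mpr fun h =>
      (maximalIdeal.isMaximal A).ne_top (eq_top_iff.mpr (h ▸ Ideal.span_le.mpr (by
        rintro _ ⟨i, rfl⟩; exact hx i)))
    haveI : IsLocalRing (A ⧸ I) := IsLocalRing.of_surjective' _ Ideal.Quotient.mk_surjective
    haveI : IsArtinian A (A ⧸ I) := (isFiniteLength_iff_isNoetherian_isArtinian.mp hsop).2
    haveI : IsArtinianRing (A ⧸ I) := isArtinian_of_tower A ‹IsArtinian A (A ⧸ I)›
    obtain ⟨N, hN⟩ := IsArtinianRing.isNilpotent_jacobson_bot (R := A ⧸ I)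
    rw [IsLocalRing.jacobson_eq_maximalIdeal ⊥ bot_ne_top,
      ← IsLocalRing.map_maximalIdeal_of_surjective _ (Ideal.Quotient.mk_surjective (I := I)),
      ← Ideal.map_pow, Ideal.zero_eq_bot, Ideal.map_eq_bot_iff_le_ker, Ideal.mk_ker] at hN
    exact ⟨N, hN⟩
  obtain ⟨c, hc, hk⟩ := exists_killer_of_complete D p d hdD (fun i => π (x i))
    (fun i => hπm ▸ Ideal.mem_map_of_mem π (hx i)) N (by
      rw [← hπm, ← Ideal.map_pow, Ideal.map_le_iff_le_comap]
      refine hN.trans ?_
      rw [Ideal.span_le]
      rintro _ ⟨i, rfl⟩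
      exact Ideal.subset_span ⟨i, rfl⟩)
  exact ⟨D, inferInstance, inferInstance, inferInstance, inferInstance, π, c, hc,
    hπm ▸ (maximalIdeal.isMaximal D).ne_top, hk⟩

end Groth.Agent.CanElt
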