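import Groth.Agent.Lib.CanElt.Core
import Groth.Agent.Lib.CanElt.Killer

/-! The improved new intersection theorem in prime characteristic. -/

set_option autoImplicit false
set_option linter.style.haveILetI false
universe u

open IsLocalRing TensorProduct

namespace Groth.Agent.CanElt

section KMul

variable {A : Type u} [CommRing A]

/-- The comparison map `K(fg) → K(f)` of Koszul complexes. -/
noncomputable def kmul : ∀ (l : List (A × A)) (n : ℕ),
    KObj A A (l.map fun p => p.1 * p.2) n →ₗ[A] KObj A A (l.map Prod.fst) n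
  | [], 0 => LinearMap.id
  | [], _ + 1 => 0
  | _ :: l, 0 => kmul l 0
  | p :: l, n + 1 => (kmul l (n + 1)).prodMap (p.2 • kmul l n)

theorem kmul_kd : ∀ (l : List (A × A)) (n : ℕ) (z : KObj A A (l.map fun p => p.1 * p.2) (n + 1)),
    kmul l n (kd A A _ n z) = kd A A _ n (kmul l (n + 1) z)
  | [], n, z => by
    rw [show kmul ([] : List (A × A)) (n + 1) z = 0 from rfl, map_zero]
    exact map_zero (kmul [] n)
  | p :: l, 0, (a, b) => by
    change kmul l 0 (kd A A _ 0 a + (p.1 * p.2) • b) = kd A A _ 0 (kmul l 1 a) + p.1 • (p.2 • kmul l 0 b)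
    rw [map_add, map_smul, kmul_kd l 0 a, smul_smul]
  | p :: l, n + 1, (a, b) => by
    change (kmul l (n + 1) (kd A A _ (n + 1) a + (p.1 * p.2) • b), p.2 • kmul l n (-kd A A _ n b)) =
      (kd A A _ (n + 1) (kmul l (n + 2) a) + p.1 • (p.2 • kmul l (n + 1) b), -kd A A _ n (p.2 • kmul l (n + 1) b))
    rw [map_add, map_smul, kmul_kd l (n + 1) a, smul_smul, map_neg, kmul_kd l n b, map_smul, smul_neg]

theorem k0_kmul : ∀ (l : List (A × A)) (z : KObj A A (l.map fun p => p.1 * p.2) 0),
    k0 A A _ (kmul l 0 z) = k0 A A _ z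
  | [], _ => rfl
  | _ :: l, z => k0_kmul l z

theorem kmul_succ_mem (G : Ideal A) : ∀ (l : List (A × A)), (∀ p ∈ l, p.2 ∈ G) → ∀ (n : ℕ)
    (z : KObj A A (l.map fun p => p.1 * p.2) (n + 1)),
      kmul l (n + 1) z ∈ G • (⊤ : Submodule A (KObj A A (l.map Prod.fst) (n + 1)))
  | [], _, n, z => zero_mem (G • (⊤ : Submodule A (KObj A A ([] : List A) (n + 1))))
  | p :: l, h, n, (a, b) => by
    have h1 := map_mem_smul_top G (LinearMap.inl A (KObj A A (l.map Prod.fst) (n + 1)) (KObj A A (l.map Prod.fst) n))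
      (kmul_succ_mem G l (fun q hq => h q (List.mem_cons_of_mem _ hq)) n a)
    have h2 := map_mem_smul_top G (LinearMap.inr A (KObj A A (l.map Prod.fst) (n + 1)) (KObj A A (l.map Prod.fst) n))
      (Submodule.smul_mem_smul (h p List.mem_cons_self) (Submodule.mem_top : kmul l n b ∈ ⊤))
    have h3 := add_mem h1 h2
    simp only [LinearMap.inl_apply, LinearMap.inr_apply, Prod.mk_add_mk, add_zero, zero_add] at h3
    exact h3

variable (X : ℕ → Type u) [∀ n, AddCommGroup (X n)] [∀ n, Module A (X n)]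
  (dX : ∀ n, X (n + 1) →ₗ[A] X n) (z : X 0)

/-- A partial chain map from the Koszul complex with `1 ↦ z`. -/
def Partial (l : List A) (n : ℕ) : Prop :=
  ∃ φ : ∀ i, KObj A A l i →ₗ[A] X i, φ 0 ((k0 A A l).symm 1) = z ∧
    ∀ i < n, ∀ w, dX i (φ (i + 1) w) = φ i (kd A A l i w)

theorem partial_zero (l : List A) : Partial X dX z l 0 := by
  refine ⟨fun i => match i with
    | 0 => LinearMap.toSpanSingleton A (X 0) z ∘ₗ (k0 A A l).toLinearMap
    | _ + 1 => 0, ?_, fun i hi => absurd hi (by omega)⟩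
  simp

theorem partial_succ (G : Ideal A) (hG0 : ∀ a ∈ G, a • z ∈ LinearMap.range (dX 0))
    (hG : ∀ n (w : X (n + 1)), dX n w = 0 → ∀ a ∈ G, a • w ∈ LinearMap.range (dX (n + 1)))
    (L : List (A × A)) (hL : ∀ p ∈ L, p.2 ∈ G) (n : ℕ) (h : Partial X dX z (L.map Prod.fst) n) :
    Partial X dX z (L.map fun p => p.1 * p.2) (n + 1) := by
  obtain ⟨φ, hφ0, hφ⟩ := h
  let ψ : ∀ i, KObj A A (L.map fun p => p.1 * p.2) i →ₗ[A] X i := fun i => φ i ∘ₗ kmul L i
  haveI := projective_KObj A A (L.map fun p => p.1 * p.2) (n + 1)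
  have hrange : ∀ w, ψ n (kd A A _ n w) ∈ LinearMap.range (dX n) := by
    intro w
    simp only [ψ, LinearMap.comp_apply, kmul_kd]
    refine Submodule.smul_induction_on (kmul_succ_mem G L hL n w) (fun r hr y _ => ?_)
      (fun a b ha hb => by rw [map_add, map_add]; exact add_mem ha hb)
    rw [map_smul, map_smul]
    cases n with
    | zero =>
      have hv : ∀ v, φ 0 v = (k0 A A (L.map Prod.fst) v) • z := fun v => by
        rw [← hφ0, ← map_smul, ← map_smul, smul_eq_mul, mul_one, LinearEquiv.symm_apply_apply]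
      rw [hv, smul_comm]
      exact Submodule.smul_mem _ _ (hG0 r hr)
    | succ m => exact hG m _ (by rw [hφ m (Nat.lt_succ_self m), kd_kd, map_zero]) r hr
  obtain ⟨χ, hχ⟩ := Module.projective_lifting_property (dX n).rangeRestrict
    ((ψ n ∘ₗ kd A A _ n).codRestrict _ hrange) (dX n).surjective_rangeRestrict
  refine ⟨Function.update ψ (n + 1) χ, ?_, fun i hi w => ?_⟩
  · rw [Function.update_of_ne (by omega)]
    simp only [ψ, LinearMap.comp_apply]
    rw [← hφ0]
    congr 1
    apply (k0 A A (L.map Prod.fst)).injective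
    simp [k0_kmul]
  · rcases Nat.lt_succ_iff_lt_or_eq.mp hi with hlt | rfl
    · rw [Function.update_of_ne (by omega), Function.update_of_ne (by omega)]
      simp only [ψ, LinearMap.comp_apply, hφ i hlt, kmul_kd]
    · rw [Function.update_self, Function.update_of_ne (by omega)]
      exact congrArg Subtype.val (LinearMap.congr_fun hχ w)

end KMul

theorem exists_sop (A : Type u) [CommRing A] [IsNoetherianRing A] [IsLocalRing A] (d : ℕ)
    (hd : ringKrullDim A = d) :
    ∃ x : Fin d → A, (∀ j, x j ∈ maximalIdeal A) ∧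
      (∃ N, maximalIdeal A ^ N ≤ Ideal.span (Set.range x)) ∧
      IsFiniteLength A (A ⧸ Ideal.span (Set.range x)) := by
  obtain ⟨s, hs, hcard⟩ := Ideal.exists_finset_card_eq_height_of_isNoetherianRing (maximalIdeal A)
  have hh : (maximalIdeal A).height = d := by
    have := (maximalIdeal_height_eq_ringKrullDim (R := A)).trans hd
    exact_mod_cast this
  rw [hh, Nat.cast_inj] at hcard
  let e := s.equivFinOfCardEq hcard
  let x : Fin d → A := fun j => e.symm j
  have hrange : Set.range x = (s : Set A) := by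
    ext a
    exact ⟨by rintro ⟨j, rfl⟩; exact (e.symm j).2, fun ha => ⟨e ⟨a, ha⟩, by simp [x]⟩⟩
  have hxm : ∀ j, x j ∈ maximalIdeal A := fun j => hs.1.2 (Ideal.subset_span (e.symm j).2)
  have hrad : maximalIdeal A ≤ (Ideal.span (Set.range x)).radical := by
    rw [hrange, Ideal.radical_eq_sInf]
    refine le_sInf fun Q ⟨hQ, hQp⟩ => ?_
    haveI := hQp
    exact hs.2 ⟨hQp, hQ⟩ (IsLocalRing.le_maximalIdeal hQp.ne_top)
  obtain ⟨N, hN⟩ := Ideal.exists_pow_le_of_le_radical_of_fg hrad (IsNoetherian.noetherian _)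
  refine ⟨x, hxm, ⟨N, hN⟩, ?_⟩
  haveI : Nontrivial (A ⧸ Ideal.span (Set.range x)) := Ideal.Quotient.nontrivial_iff.mpr fun h =>
    (maximalIdeal.isMaximal A).ne_top (top_le_iff.mp (h ▸ Ideal.span_le.mpr (by rintro _ ⟨j, rfl⟩; exact hxm j)))
  haveI : IsLocalRing (A ⧸ Ideal.span (Set.range x)) :=
    IsLocalRing.of_surjective' _ Ideal.Quotient.mk_surjective
  haveI : IsArtinianRing (A ⧸ Ideal.span (Set.range x)) :=
    (isArtinianRing_iff_isNilpotent_maximalIdeal _).mpr ⟨N, by
      rw [← IsLocalRing.map_maximalIdeal_of_surjective _ (Ideal.Quotient.mk_surjective (I := Ideal.span (Set.range x))),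
        ← Ideal.map_pow]
      exact Ideal.map_mk_eq_bot_of_le hN⟩
  exact isFiniteLength_iff_isNoetherian_isArtinian.mpr
    ⟨inferInstance, isArtinian_of_surjective_algebraMap (Ideal.Quotient.mk_surjective (I := Ideal.span (Set.range x)))⟩

/-- The improved new intersection theorem in prime characteristic: a free complex of length `k`,
with homology in positive degrees killed by a power of the maximal ideal, and an element of degree
zero sent to one by an augmentation which is zero modulo the maximal ideal on boundaries, whose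
class is killed by a power of the maximal ideal, has `dim A ≤ k`. -/
theorem improved_nit (A : Type u) [CommRing A] [IsNoetherianRing A] [IsLocalRing A]
    (p : ℕ) [Fact p.Prime] [CharP A p] (d : ℕ) (hd : ringKrullDim A = d)
    (X : ℕ → Type u) [∀ n, AddCommGroup (X n)] [∀ n, Module A (X n)] [∀ n, Module.Free A (X n)]
    (dX : ∀ n, X (n + 1) →ₗ[A] X n) (hX : ∀ n (w : X (n + 2)), dX n (dX (n + 1) w) = 0)
    (k : ℕ) (hbd : ∀ i, k < i → Subsingleton (X i))
    (z : X 0) (ε₀ : X 0 →ₗ[A] A) (hεz : ε₀ z = 1) (hεd : ∀ w, ε₀ (dX 0 w) ∈ maximalIdeal A) (N : ℕ)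
    (hN0 : ∀ a ∈ maximalIdeal A ^ N, a • z ∈ LinearMap.range (dX 0))
    (hN : ∀ n (w : X (n + 1)), dX n w = 0 → ∀ a ∈ maximalIdeal A ^ N,
      a • w ∈ LinearMap.range (dX (n + 1))) : d ≤ k := by
  classical
  by_contra hkd
  rw [not_le] at hkd
  obtain ⟨x, hx, ⟨N0, hN0'⟩, hsop⟩ := exists_sop A d hd
  -- the chain map from a Koszul complex on high powers
  have hP : ∀ n, Partial X dX z (List.ofFn fun i => x i ^ (2 ^ n * (N + 1))) n := by
    intro n
    induction n with
    | zero => exact partial_zero X dX z _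
    | succ n ih =>
      let L := List.ofFn fun i => (x i ^ (2 ^ n * (N + 1)), x i ^ (2 ^ n * (N + 1)))
      have h1 : L.map Prod.fst = List.ofFn fun i => x i ^ (2 ^ n * (N + 1)) := by
        simp only [L, List.map_ofFn]; rfl
      have h2 : (L.map fun p => p.1 * p.2) = List.ofFn fun i => x i ^ (2 ^ (n + 1) * (N + 1)) := by
        simp only [L, List.map_ofFn, Function.comp_def, ← pow_add]
        congr 1
        funext i
        ring_nf
      have := partial_succ X dX z (maximalIdeal A ^ N) hN0 hN L (fun q hq => ?_) n (h1 ▸ ih)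
      · exact h2 ▸ this
      · obtain ⟨i, rfl⟩ := List.mem_ofFn.mp hq
        exact Ideal.pow_le_pow_right (by nlinarith [Nat.one_le_two_pow (n := n)])
          (Ideal.pow_mem_pow (hx i) (2 ^ n * (N + 1)))
  obtain ⟨φ, hφ0, hφ⟩ := hP d
  let t := 2 ^ d * (N + 1)
  have ht : 0 < t := by positivity
  let l := List.ofFn fun i => x i ^ t
  -- the killer and the chain of ideals
  obtain ⟨D, _, _, _, _, π, c, hc, hne, hkill⟩ := exists_killer A p d hd x hx hsop
  let Q : ℕ → Ideal D := fun e => Ideal.span (Set.range fun i => π (x i) ^ (t * p ^ e))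
  let T : ℕ →o Ideal A :=
    { toFun := fun M =>
        { carrier := {a | ∀ e, c ^ M * π a ^ (p ^ e) ∈ Q e}
          add_mem' := fun {a b} ha hb e => by
            rw [map_add, add_pow_char_pow, mul_add]; exact add_mem (ha e) (hb e)
          zero_mem' := fun e => by
            rw [map_zero, zero_pow (pow_ne_zero _ (Fact.out : p.Prime).ne_zero), mul_zero]; exact zero_mem _
          smul_mem' := fun r a ha e => by
            rw [smul_eq_mul, map_mul, mul_pow, mul_left_comm]; exact Ideal.mul_mem_left _ _ (ha e) }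
      monotone' := fun M M' h a ha e => by
        rw [show M' = (M' - M) + M by omega, pow_add, mul_assoc]
        exact Ideal.mul_mem_left _ _ (ha e) }
  obtain ⟨M, hM⟩ := monotone_stabilizes_iff_noetherian.mpr inferInstance T
  have hmemT : ∀ {M : ℕ} {a : A}, a ∈ T M ↔ ∀ e, c ^ M * π a ^ (p ^ e) ∈ Q e := Iff.rfl
  have h1T : (1 : A) ∉ T M := by
    intro h
    have h0 : c ^ M ∈ ⨅ n : ℕ, ((maximalIdeal A).map π) ^ n := Ideal.mem_iInf.mpr fun n => by
      have hh := hmemT.mp h n
      rw [map_one, one_pow, mul_one] at hh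
      refine Ideal.span_le.mpr ?_ hh
      rintro _ ⟨i, rfl⟩
      exact Ideal.pow_le_pow_right ((Nat.lt_pow_self (Fact.out : p.Prime).one_lt).le.trans
        (Nat.le_mul_of_pos_left _ ht)) (Ideal.pow_mem_pow (Ideal.mem_map_of_mem π (hx i)) _)
    rw [Ideal.iInf_pow_eq_bot_of_isDomain _ hne] at h0
    exact pow_ne_zero M hc h0
  have hxT : ∀ i, x i ^ t ∈ T M := fun i => hmemT.mpr fun e => by
    rw [map_pow, ← pow_mul]
    exact Ideal.mul_mem_left _ _ (Ideal.subset_span ⟨i, rfl⟩)
  have hex : ∃ n, maximalIdeal A ^ n ≤ T M := by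
    refine Ideal.exists_pow_le_of_le_radical_of_fg ?_ (IsNoetherian.noetherian _)
    intro a ha
    refine Ideal.radical_idem (I := T M) ▸ ⟨N0, ?_⟩
    refine (Ideal.span_le.mpr ?_ : Ideal.span (Set.range x) ≤ (T M).radical) (hN0' (Ideal.pow_mem_pow ha _))
    rintro _ ⟨i, rfl⟩
    exact ⟨t, hxT i⟩
  have hn0 : Nat.find hex ≠ 0 := fun h => h1T (Nat.find_spec hex (by rw [h, pow_zero, Ideal.one_eq_top]; trivial))
  obtain ⟨n, hn⟩ := Nat.exists_eq_succ_of_ne_zero hn0
  obtain ⟨s, hs, hsT⟩ := SetLike.not_le_iff_exists.mp (Nat.find_min hex (show n < Nat.find hex by omega))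
  have hsm : ∀ a ∈ maximalIdeal A, s * a ∈ T M := fun a ha => by
    have hh := Nat.find_spec hex
    rw [hn, pow_succ] at hh
    exact hh (Ideal.mul_mem_mul hs ha)
  -- the core
  refine hsT ?_
  rw [hM (2 * d + M) (by omega), hmemT]
  intro e
  letI : Algebra A D := ((iterateFrobenius D p e).comp π).toAlgebra
  have halg : ∀ a, algebraMap A D a = π a ^ (p ^ e) := fun a => iterateFrobenius_def p e (π a)
  have hlD : l.map (algebraMap A D) = List.ofFn fun i => π (x i) ^ (t * p ^ e) := by
    simp only [l, List.map_ofFn]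
    congr 1
    funext i
    rw [Function.comp_apply, halg, map_pow, ← pow_mul]
  have hQ : Ideal.ofList (l.map (algebraMap A D)) = Q e := by
    rw [hlD]
    unfold Ideal.ofList
    congr 1
    ext a
    simp [List.mem_ofFn]
  haveI : Subsingleton (X d) := hbd d hkd
  rw [← halg]
  refine core' l (Q e) hQ.le List.length_ofFn (by omega) X dX hX φ (fun i hi w => hφ i hi w) (s • ε₀) s M c ?_
    (fun w => ?_) (fun w => ?_) (hlD ▸ hkill _)
  · rw [LinearMap.smul_apply, hφ0, hεz, smul_eq_mul, mul_one, sub_self]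
    exact zero_mem _
  · rw [hQ, halg, LinearMap.smul_apply, smul_eq_mul]
    exact hmemT.mp (hsm _ (hεd w)) e
  · have h0 : φ d = 0 := LinearMap.ext fun v => Subsingleton.elim _ _
    rw [h0, LinearMap.baseChange_zero, LinearMap.zero_apply]
    exact zero_mem _

end Groth.Agent.CanElt
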