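import Groth.Prelude.Def_Koszul
import Mathlib

/-! An elementary `ℕ`-indexed model of the Koszul complex of a module. -/

set_option autoImplicit false
set_option linter.style.haveILetI false
universe u

open CategoryTheory TensorProduct

namespace Groth.Agent.CanElt

section Def

variable (A : Type u) [CommRing A] (M : Type u) [AddCommGroup M] [Module A M]

/-- The `n`-th module of the Koszul complex of `M` on `l`. -/
noncomputable def KObj : List A → ℕ → ModuleCat.{u} A
  | [], 0 => ModuleCat.of A M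
  | [], _ + 1 => ModuleCat.of A PUnit.{u + 1}
  | _ :: l, 0 => KObj l 0
  | _ :: l, n + 1 => ModuleCat.of A (KObj l (n + 1) × KObj l n)

/-- The differential `K (n+1) → K n`. -/
noncomputable def kd : ∀ (l : List A) (n : ℕ), KObj A M l (n + 1) →ₗ[A] KObj A M l n
  | [], _ => 0
  | f :: l, 0 =>
    (kd l 0).comp (LinearMap.fst A _ _) + f • LinearMap.snd A _ _
  | f :: l, n + 1 =>
    ((kd l (n + 1)).comp (LinearMap.fst A _ _) + f • LinearMap.snd A _ _).prod
      (-(kd l n).comp (LinearMap.snd A _ _))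

theorem kd_zero_apply (f : A) (l : List A) (a : KObj A M l 1) (b : KObj A M l 0) :
    kd A M (f :: l) 0 (a, b) = kd A M l 0 a + f • b := rfl

theorem kd_succ_apply (f : A) (l : List A) (n : ℕ) (a : KObj A M l (n + 2)) (b : KObj A M l (n + 1)) :
    kd A M (f :: l) (n + 1) (a, b) = (kd A M l (n + 1) a + f • b, -kd A M l n b) := rfl

/-- `K 0` is the module itself. -/
noncomputable def k0 : ∀ l : List A, KObj A M l 0 ≃ₗ[A] M
  | [] => LinearEquiv.refl A M
  | _ :: l => k0 l

theorem kd_kd : ∀ (l : List A) (n : ℕ) (z : KObj A M l (n + 2)), kd A M l n (kd A M l (n + 1) z) = 0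
  | [], _, _ => rfl
  | f :: l, 0, (a, b) => by
    rw [kd_succ_apply, kd_zero_apply, map_add, kd_kd l 0 a, map_smul, zero_add, smul_neg, add_neg_cancel]
    rfl
  | f :: l, n + 1, (a, b) => by
    rw [kd_succ_apply, kd_succ_apply, map_add, kd_kd l (n + 1) a, map_smul, zero_add, smul_neg,
      add_neg_cancel, map_neg, neg_neg, kd_kd l n b]
    rfl

theorem range_kd_le : ∀ (l : List A) (n : ℕ),
    LinearMap.range (kd A M l n) ≤ Ideal.ofList l • (⊤ : Submodule A (KObj A M l n))
  | [], n => by rintro _ ⟨z, rfl⟩; exact zero_mem _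
  | f :: l, 0 => by
    rintro _ ⟨⟨a, b⟩, rfl⟩
    rw [kd_zero_apply]
    refine add_mem (Submodule.smul_mono_left ?_ (range_kd_le l 0 ⟨a, rfl⟩)) (Submodule.smul_mem_smul ?_ trivial)
    · rw [Ideal.ofList_cons]; exact le_sup_right
    · exact Ideal.subset_span (by simp)
  | f :: l, n + 1 => by
    rintro _ ⟨⟨a, b⟩, rfl⟩
    rw [kd_succ_apply]
    have hl : Ideal.ofList l ≤ Ideal.ofList (f :: l) := by rw [Ideal.ofList_cons]; exact le_sup_right
    have hsplit : ((kd A M l (n + 1) a + f • b, -kd A M l n b) :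
        KObj A M l (n + 1) × KObj A M l n) =
        LinearMap.inl A _ _ (kd A M l (n + 1) a + f • b) + LinearMap.inr A _ _ (-kd A M l n b) := by
      simp
    rw [hsplit]
    have key : ∀ {X Y : Type u} [AddCommGroup X] [Module A X] [AddCommGroup Y] [Module A Y] (φ : X →ₗ[A] Y)
        (x : X), x ∈ Ideal.ofList (f :: l) • (⊤ : Submodule A X) → φ x ∈ Ideal.ofList (f :: l) • (⊤ : Submodule A Y) := by
      intro X Y _ _ _ _ φ x hx
      have h := Submodule.mem_map_of_mem (f := φ) hx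
      rw [Submodule.map_smul''] at h
      exact Submodule.smul_mono le_rfl le_top h
    refine add_mem (key _ _ (add_mem (Submodule.smul_mono_left hl (range_kd_le l (n + 1) ⟨a, rfl⟩))
      (Submodule.smul_mem_smul (Ideal.subset_span (List.mem_cons_self : f ∈ f :: l)) Submodule.mem_top))) ?_
    exact key _ _ (neg_mem (Submodule.smul_mono_left hl (range_kd_le l n ⟨b, rfl⟩)))

theorem mem_range_kd_zero : ∀ (l : List A) (x : KObj A M l 0),
    x ∈ LinearMap.range (kd A M l 0) ↔ k0 A M l x ∈ Ideal.ofList l • (⊤ : Submodule A M)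
  | [], x => by
    change x ∈ LinearMap.range (0 : KObj A M [] 1 →ₗ[A] KObj A M [] 0) ↔ x ∈ _
    rw [LinearMap.range_zero, Ideal.ofList_nil, Submodule.bot_smul]
    rfl
  | f :: l, x => by
    rw [Ideal.ofList_cons, Submodule.sup_smul, Submodule.ideal_span_singleton_smul, Submodule.mem_sup]
    constructor
    · rintro ⟨⟨a, b⟩, rfl⟩
      refine ⟨f • k0 A M l b, Submodule.smul_mem_pointwise_smul _ _ _ trivial, k0 A M l (kd A M l 0 a),
        (mem_range_kd_zero l _).mp ⟨a, rfl⟩, ?_⟩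
      rw [kd_zero_apply]
      change _ = k0 A M l (kd A M l 0 a + f • b)
      rw [map_add, map_smul, add_comm]
    · rintro ⟨y, hy, z, hz, hyz⟩
      obtain ⟨m, -, rfl⟩ := (Submodule.mem_smul_pointwise_iff_exists _ _ _).mp hy
      obtain ⟨a, ha⟩ := (mem_range_kd_zero l ((k0 A M l).symm z)).mpr (by rwa [LinearEquiv.apply_symm_apply])
      refine ⟨(a, (k0 A M l).symm m), (k0 A M l).injective ?_⟩
      rw [kd_zero_apply, map_add, map_smul, ha, LinearEquiv.apply_symm_apply, LinearEquiv.apply_symm_apply,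
        add_comm]
      exact hyz

theorem subsingleton_KObj : ∀ (l : List A) (n : ℕ), l.length < n → Subsingleton (KObj A M l n)
  | [], n + 1, _ => inferInstanceAs (Subsingleton PUnit)
  | f :: l, n + 1, h => by
    haveI := subsingleton_KObj l (n + 1) (by simp at h; omega)
    haveI := subsingleton_KObj l n (by simp at h; omega)
    exact inferInstanceAs (Subsingleton (KObj A M l (n + 1) × KObj A M l n))

/-- The top module is the module itself. -/
noncomputable def top : ∀ l : List A, KObj A M l l.length ≃ₗ[A] M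
  | [] => LinearEquiv.refl A M
  | f :: l =>
    haveI : Unique (KObj A M l (l.length + 1)) :=
      @uniqueOfSubsingleton _ (subsingleton_KObj A M l (l.length + 1) (Nat.lt_succ_self _)) 0
    (LinearEquiv.uniqueProd : (KObj A M l (l.length + 1) × KObj A M l l.length) ≃ₗ[A] _) ≪≫ₗ top l

/-- The regularity needed for exactness. -/
def Reg : List A → Prop
  | [] => True
  | f :: l => Reg l ∧ ∀ m : M, f • m ∈ Ideal.ofList l • (⊤ : Submodule A M) →
      m ∈ Ideal.ofList l • (⊤ : Submodule A M)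

theorem exact_of_reg : ∀ (l : List A), Reg A M l → ∀ (n : ℕ) (z : KObj A M l (n + 1)),
    kd A M l n z = 0 → ∃ w, kd A M l (n + 1) w = z
  | [], _, _, _, _ => ⟨0, Subsingleton.elim (h := inferInstanceAs (Subsingleton PUnit)) _ _⟩
  | f :: l, ⟨hl, hf⟩, 0, (a, b), hz => by
    replace hz : kd A M l 0 a + f • b = (0 : KObj A M l 0) := hz
    rw [add_eq_zero_iff_eq_neg] at hz
    have hb : b ∈ LinearMap.range (kd A M l 0) := by
      rw [mem_range_kd_zero]
      refine hf _ ?_
      rw [← map_smul, ← mem_range_kd_zero]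
      exact ⟨-a, by rw [map_neg, hz, neg_neg]⟩
    obtain ⟨b', rfl⟩ := hb
    obtain ⟨a', ha'⟩ := exact_of_reg l hl 0 (a + f • b') (by rw [map_add, map_smul, hz, neg_add_cancel])
    refine ⟨(a', -b'), ?_⟩
    rw [kd_succ_apply, ha', map_neg, neg_neg, smul_neg, add_neg_cancel_right]
  | f :: l, ⟨hl, hf⟩, n + 1, (a, b), hz => by
    replace hz : (kd A M l (n + 1) a + f • b, -kd A M l n b) = (0 : KObj A M l (n + 1) × KObj A M l n) := hz
    rw [Prod.mk_eq_zero, neg_eq_zero, add_eq_zero_iff_eq_neg] at hz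
    obtain ⟨b', rfl⟩ := exact_of_reg l hl n b hz.2
    obtain ⟨a', ha'⟩ := exact_of_reg l hl (n + 1) (a + f • b') (by rw [map_add, map_smul, hz.1, neg_add_cancel])
    refine ⟨(a', -b'), ?_⟩
    rw [kd_succ_apply, ha', map_neg, neg_neg, smul_neg, add_neg_cancel_right]

theorem projective_KObj [Module.Projective A M] : ∀ (l : List A) (n : ℕ), Module.Projective A (KObj A M l n)
  | [], 0 => inferInstanceAs (Module.Projective A M)
  | [], _ + 1 => inferInstanceAs (Module.Projective A PUnit.{u + 1})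
  | _ :: l, 0 => projective_KObj l 0
  | _ :: l, n + 1 =>
    haveI := projective_KObj l (n + 1)
    haveI := projective_KObj l n
    inferInstanceAs (Module.Projective A (KObj A M l (n + 1) × KObj A M l n))

end Def

section Map

variable {A B : Type u} [CommRing A] [CommRing B] {σ : A →+* B} {M N : Type u} [AddCommGroup M] [Module A M]
  [AddCommGroup N] [Module B N]

/-- functoriality, semilinear. -/
noncomputable def kmap (ψ : M →ₛₗ[σ] N) : ∀ (l : List A) (n : ℕ), KObj A M l n →ₛₗ[σ] KObj B N (l.map σ) n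
  | [], 0 => ψ
  | [], _ + 1 => 0
  | _ :: l, 0 => kmap ψ l 0
  | _ :: l, n + 1 =>
    { toFun := fun z => (kmap ψ l (n + 1) z.1, kmap ψ l n z.2)
      map_add' := fun _ _ => Prod.ext (map_add _ _ _) (map_add _ _ _)
      map_smul' := fun r _ => Prod.ext (LinearMap.map_smulₛₗ _ r _) (LinearMap.map_smulₛₗ _ r _) }

theorem kmap_succ_apply (ψ : M →ₛₗ[σ] N) (f : A) (l : List A) (n : ℕ) (a : KObj A M l (n + 1))
    (b : KObj A M l n) : kmap ψ (f :: l) (n + 1) (a, b) = (kmap ψ l (n + 1) a, kmap ψ l n b) := rfl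

theorem kmap_kd (ψ : M →ₛₗ[σ] N) : ∀ (l : List A) (n : ℕ) (z : KObj A M l (n + 1)),
    kmap ψ l n (kd A M l n z) = kd B N (l.map σ) n (kmap ψ l (n + 1) z)
  | [], n, z => map_zero (kmap ψ [] n)
  | f :: l, 0, (a, b) => by
    rw [kd_zero_apply, kmap_succ_apply]
    change kmap ψ l 0 _ = kd B N (σ f :: l.map σ) 0 _
    rw [map_add, LinearMap.map_smulₛₗ, kmap_kd ψ l 0 a, kd_zero_apply]
  | f :: l, n + 1, (a, b) => by
    rw [kd_succ_apply, kmap_succ_apply, kmap_succ_apply]
    change _ = kd B N (σ f :: l.map σ) (n + 1) _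
    rw [kd_succ_apply, map_add, LinearMap.map_smulₛₗ, kmap_kd ψ l (n + 1) a, map_neg, kmap_kd ψ l n b]

theorem kmap_injective (ψ : M →ₛₗ[σ] N) (h : Function.Injective ψ) :
    ∀ (l : List A) (n : ℕ), Function.Injective (kmap ψ l n)
  | [], 0 => h
  | [], _ + 1 => fun _ _ _ => Subsingleton.elim (h := inferInstanceAs (Subsingleton PUnit)) _ _
  | _ :: l, 0 => kmap_injective ψ h l 0
  | _ :: l, n + 1 => fun _ _ e =>
    Prod.ext (kmap_injective ψ h l (n + 1) (congrArg Prod.fst e)) (kmap_injective ψ h l n (congrArg Prod.snd e))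

theorem kmap_surjective (ψ : M →ₛₗ[σ] N) (h : Function.Surjective ψ) :
    ∀ (l : List A) (n : ℕ), Function.Surjective (kmap ψ l n)
  | [], 0 => h
  | [], _ + 1 => fun y => ⟨0, Subsingleton.elim (h := inferInstanceAs (Subsingleton PUnit)) _ _⟩
  | _ :: l, 0 => kmap_surjective ψ h l 0
  | _ :: l, n + 1 => fun y => by
    obtain ⟨a, ha⟩ := kmap_surjective ψ h l (n + 1) y.1
    obtain ⟨b, hb⟩ := kmap_surjective ψ h l n y.2
    exact ⟨(a, b), Prod.ext ha hb⟩

end Map

section Killed

variable {A : Type u} [CommRing A] {M N : Type u} [AddCommGroup M] [Module A M] [AddCommGroup N] [Module A N]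

/-- functoriality, linear. -/
noncomputable def lmap (ψ : M →ₗ[A] N) : ∀ (l : List A) (n : ℕ), KObj A M l n →ₗ[A] KObj A N l n
  | [], 0 => ψ
  | [], _ + 1 => 0
  | _ :: l, 0 => lmap ψ l 0
  | _ :: l, n + 1 => (lmap ψ l (n + 1)).prodMap (lmap ψ l n)

theorem lmap_kd (ψ : M →ₗ[A] N) : ∀ (l : List A) (n : ℕ) (z : KObj A M l (n + 1)),
    lmap ψ l n (kd A M l n z) = kd A N l n (lmap ψ l (n + 1) z)
  | [], n, z => map_zero (lmap ψ [] n)
  | f :: l, 0, (a, b) => by
    change lmap ψ l 0 (kd A M l 0 a + f • b) = kd A N l 0 (lmap ψ l 1 a) + f • lmap ψ l 0 b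
    rw [map_add, map_smul, lmap_kd ψ l 0 a]
  | f :: l, n + 1, (a, b) => by
    change (lmap ψ l (n + 1) (kd A M l (n + 1) a + f • b), lmap ψ l n (-kd A M l n b)) =
      (kd A N l (n + 1) (lmap ψ l (n + 2) a) + f • lmap ψ l (n + 1) b, -kd A N l n (lmap ψ l (n + 1) b))
    rw [map_add, map_smul, lmap_kd ψ l (n + 1) a, map_neg, lmap_kd ψ l n b]

theorem lmap_lmap (ψ : M →ₗ[A] N) (χ : N →ₗ[A] M) (c : A) (h : ∀ m, χ (ψ m) = c • m) :
    ∀ (l : List A) (n : ℕ) (z : KObj A M l n), lmap χ l n (lmap ψ l n z) = c • z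
  | [], 0, z => h z
  | [], _ + 1, _ => Subsingleton.elim (h := inferInstanceAs (Subsingleton PUnit)) _ _
  | _ :: l, 0, z => lmap_lmap ψ χ c h l 0 z
  | _ :: l, n + 1, (a, b) => Prod.ext (lmap_lmap ψ χ c h l (n + 1) a) (lmap_lmap ψ χ c h l n b)

variable (A M) in
/-- `c` kills the homology in positive degrees. -/
def Killed (l : List A) (c : A) : Prop :=
  ∀ (n : ℕ) (z : KObj A M l (n + 1)), kd A M l n z = 0 → ∃ w, kd A M l (n + 1) w = c • z

theorem killed_of_factor (ψ : M →ₗ[A] N) (χ : N →ₗ[A] M) (c : A) (h : ∀ m, χ (ψ m) = c • m)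
    (l : List A) (hreg : Reg A N l) : Killed A M l c := fun n z hz => by
  obtain ⟨w, hw⟩ := exact_of_reg A N l hreg n (lmap ψ l (n + 1) z) (by rw [← lmap_kd, hz, map_zero])
  exact ⟨lmap χ l (n + 2) w, by rw [← lmap_kd, hw, lmap_lmap ψ χ c h]⟩

theorem killed_map {B : Type u} [CommRing B] {σ : A →+* B} {M' : Type u} [AddCommGroup M'] [Module B M']
    (ψ : M →ₛₗ[σ] M') (hψ : Function.Bijective ψ) {l : List A} {c : A} (h : Killed A M l c) :
    Killed B M' (l.map σ) (σ c) := fun n z hz => by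
  obtain ⟨z, rfl⟩ := kmap_surjective ψ hψ.2 l (n + 1) z
  rw [← kmap_kd, ← map_zero (kmap ψ l n)] at hz
  obtain ⟨w, hw⟩ := h n z (kmap_injective ψ hψ.1 l n hz)
  exact ⟨kmap ψ l (n + 2) w, by rw [← kmap_kd, hw, LinearMap.map_smulₛₗ]⟩

end Killed

end Groth.Agent.CanElt
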