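import Groth.Agent.Lib.CanElt.Acyclicity

/-! Acyclicity for (co)chain complexes of free modules. -/

set_option autoImplicit false
set_option linter.style.haveILetI false
universe u

open IsLocalRing CategoryTheory RingTheory.Sequence

namespace Groth.Agent.CanElt

variable {A : Type u} [CommRing A] [IsNoetherianRing A] [IsLocalRing A]

theorem exists_regular_seq (d : ℕ) (hd : (d : ℕ∞) ≤ LocCoh.depth A A) :
    ∃ rs : List A, (∀ r ∈ rs, r ∈ maximalIdeal A) ∧ rs.length = d ∧ IsWeaklyRegular A rs := by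
  obtain ⟨rs, h1, h2, h3⟩ := DepthLib.exists_isWeaklyRegular_of_le_idealDepth (R := A) (M := A)
    (DepthLib.smul_top_ne_top (maximalIdeal.isMaximal A).ne_top) (n := d) hd
  exact ⟨rs, h2, h3, h1⟩

theorem chain_homology_isZero (F : ChainComplex (ModuleCat.{u} A) ℕ) (k : ℕ)
    (hbd : ∀ i, k < i → Limits.IsZero (F.X i))
    (hfree : ∀ i, Module.Free A (F.X i))
    (hfl : ∀ i, IsFiniteLength A (F.homology i))
    (d : ℕ) (hd : (d : ℕ∞) ≤ LocCoh.depth A A) (i : ℕ) (hi : k - d < i) :
    Limits.IsZero (F.homology i) := by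
  haveI := hfree
  obtain ⟨rs, hrs, hlen, hreg⟩ := exists_regular_seq d hd
  obtain ⟨n, rfl⟩ : ∃ n, i = n + 1 := ⟨i - 1, by omega⟩
  have hprev : ∀ j, (ComplexShape.down ℕ).prev j = j + 1 := fun j => ChainComplex.prev _ j
  choose N hN using fun j => exists_pow_smul_eq_zero (F.homology j) (hfl j)
  let N0 := (Finset.range (k + 1)).sup N
  have hbound : ∀ j (j' : ℕ) (hnext : (ComplexShape.down ℕ).next j = j') (w : F.X j), F.d j j' w = 0 →
      ∀ a ∈ maximalIdeal A ^ N0, a • w ∈ LinearMap.range (F.d (j + 1) j).hom := by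
    intro j j' hnext w hw a ha
    rcases Nat.lt_or_ge k j with hjk | hjk
    · haveI := ModuleCat.subsingleton_of_isZero (hbd j hjk)
      exact ⟨0, Subsingleton.elim _ _⟩
    obtain ⟨t, rfl⟩ := DMod.exists_cycle hnext w hw
    obtain ⟨v, hv⟩ := (DMod.homologyπ_eq_zero_iff (hprev j) (a • t)).mp (by
      rw [map_smul]
      exact hN j a (Ideal.pow_le_pow_right (Finset.le_sup (Finset.mem_range_succ_iff.mpr hjk)) ha) _)
    exact ⟨v, hv.trans (map_smul _ _ _)⟩
  refine (DMod.isZero_iff_subsingleton _).mpr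
    ((DMod.subsingleton_homology_iff F (hprev _) (ChainComplex.next_nat_succ n)).mpr fun x hx => ?_)
  exact acyclicity rs hrs (fun j => F.X j) (fun j => (F.d (j + 1) j).hom)
    (fun j => isWeaklyRegular_of_free hreg _)
    (fun j w => ConcreteCategory.congr_hom (F.d_comp_d (j + 2) (j + 1) j) w) k
    (fun j hj => ModuleCat.subsingleton_of_isZero (hbd j hj)) N0
    (fun a ha v => hbound 0 0 ChainComplex.next_nat_zero v (by rw [F.shape 0 0 (by simp)]; rfl) a ha)
    (fun j w hw a ha => hbound (j + 1) j (ChainComplex.next_nat_succ j) w hw a ha) n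
    (by omega) x hx

theorem exists_homology_ne_zero (F : ChainComplex (ModuleCat.{u} A) ℕ) (k : ℕ)
    (hbd : ∀ i, k < i → Limits.IsZero (F.X i)) (htop : ¬ Limits.IsZero (F.X k))
    (hfree : ∀ i, Module.Free A (F.X i) ∧ Module.Finite A (F.X i))
    (hmin : ∀ i j, LinearMap.range (F.d i j).hom ≤ maximalIdeal A • (⊤ : Submodule A (F.X j)))
    (d : ℕ) (hd : LocCoh.depth A A = d) :
    ∃ i, k - d ≤ i ∧ i ≤ k ∧ ¬ Limits.IsZero (F.homology i) := by
  have hprev : ∀ j, (ComplexShape.down ℕ).prev j = j + 1 := fun j => ChainComplex.prev _ j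
  haveI : ∀ i, Module.Free A (F.X i) := fun i => (hfree i).1
  haveI : ∀ i, Module.Finite A (F.X i) := fun i => (hfree i).2
  by_contra hcon
  push Not at hcon
  have hz : ∀ i, k - d ≤ i → i ≤ k → Subsingleton (F.homology i) := fun i h1 h2 =>
    ModuleCat.subsingleton_of_isZero (hcon i h1 h2)
  rcases k with - | k
  · refine htop ((DMod.isZero_iff_subsingleton _).mpr (subsingleton_of_forall_eq 0 fun x => ?_))
    obtain ⟨y, hy⟩ := (DMod.subsingleton_homology_iff F (hprev 0) ChainComplex.next_nat_zero).mp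
      (hz 0 (by omega) le_rfl) x (by rw [F.shape 0 0 (by simp)]; rfl)
    haveI := ModuleCat.subsingleton_of_isZero (hbd 1 Nat.one_pos)
    rw [← hy, Subsingleton.elim y 0, map_zero]
  refine exists_not_exact A (fun j => F.X j) (fun j => (F.d (j + 1) j).hom) k
    (fun j hj => ModuleCat.subsingleton_of_isZero (hbd j hj))
    (not_subsingleton_iff_nontrivial.mp fun h => htop ((DMod.isZero_iff_subsingleton _).mpr h))
    (fun j w => hmin _ _ ⟨w, rfl⟩) d hd (fun hkd y => ?_) (fun n hn w hw => ?_)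
    (fun j w => ConcreteCategory.congr_hom (F.d_comp_d (j + 2) (j + 1) j) w)
  · exact (DMod.subsingleton_homology_iff F (hprev 0) ChainComplex.next_nat_zero).mp
      (hz 0 (by omega) (by omega)) y (by rw [F.shape 0 0 (by simp)]; rfl)
  · rcases Nat.lt_or_ge (k + 1) (n + 1) with h | h
    · haveI := ModuleCat.subsingleton_of_isZero (hbd (n + 1) h)
      exact ⟨0, Subsingleton.elim _ _⟩
    · exact (DMod.subsingleton_homology_iff F (hprev _) (ChainComplex.next_nat_succ n)).mp
        (hz (n + 1) (by omega) h) w hw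

theorem cochain_homology_isZero (M : CochainComplex (ModuleCat.{u} A) ℕ) (g : ℕ)
    (hfree : ∀ i, Module.Free A (M.X i))
    (hfl : ∀ i, IsFiniteLength A (M.homology i)) (hbd : ∀ i, g < i → Limits.IsZero (M.X i))
    (hd : (g : ℕ∞) ≤ LocCoh.depth A A) (i : ℕ) (hi : i < g) : Limits.IsZero (M.homology i) := by
  haveI := hfree
  obtain ⟨rs, hrs, hlen, hreg⟩ := exists_regular_seq g hd
  choose N hN using fun j => exists_pow_smul_eq_zero (M.homology j) (hfl j)
  let N0 := (Finset.range (g + 1)).sup N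
  have hnext : ∀ j, (ComplexShape.up ℕ).next j = j + 1 := fun j => CochainComplex.next _ j
  have hbound : ∀ j j' (hprev : (ComplexShape.up ℕ).prev j = j') (_ : j ≤ g) (w : M.X j), M.d j (j + 1) w = 0 →
      ∀ a ∈ maximalIdeal A ^ N0, a • w ∈ LinearMap.range (M.d j' j).hom := by
    intro j j' hprev hjg w hw a ha
    obtain ⟨t, rfl⟩ := DMod.exists_cycle (hnext j) w hw
    obtain ⟨v, hv⟩ := (DMod.homologyπ_eq_zero_iff hprev (a • t)).mp (by
      rw [map_smul]
      exact hN j a (Ideal.pow_le_pow_right (Finset.le_sup (Finset.mem_range_succ_iff.mpr hjg)) ha) _)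
    exact ⟨v, hv.trans (map_smul _ _ _)⟩
  -- reverse the indexing
  let X : ℕ → ModuleCat.{u} A := fun n => if n ≤ g then M.X (g - n) else ModuleCat.of A PUnit.{u + 1}
  have hXeq : ∀ n, n ≤ g → X n = M.X (g - n) := fun n hn => if_pos hn
  have hXgt : ∀ n, g < n → Subsingleton (X n) := fun n hn => by
    rw [show X n = ModuleCat.of A PUnit.{u + 1} from if_neg (not_le.mpr hn)]
    exact inferInstanceAs (Subsingleton PUnit.{u + 1})
  let dX : ∀ n, X (n + 1) →ₗ[A] X n := fun n =>
    if h : n + 1 ≤ g then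
      (eqToHom (hXeq _ h) ≫ M.d (g - (n + 1)) (g - n) ≫ eqToHom (hXeq n (by omega)).symm).hom
    else 0
  have hfreeX : ∀ n, IsWeaklyRegular (X n) rs := fun n => by
    rcases le_or_gt n g with h | h
    · rw [hXeq n h]; exact isWeaklyRegular_of_free hreg _
    · haveI := hXgt n h
      haveI : Module.Flat A (X n) := by
        haveI : Module.Projective A (X n) := Module.Projective.of_free
        infer_instance
      exact isWeaklyRegular_of_free hreg _
  have hinv : ∀ {P Q : ModuleCat.{u} A} (e : P = Q) (w : P), eqToHom e.symm (eqToHom e w) = w := by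
    rintro P Q rfl w; rfl
  have hinv' : ∀ {P Q : ModuleCat.{u} A} (e : P = Q) (w : Q), eqToHom e (eqToHom e.symm w) = w := by
    rintro P Q rfl w; rfl
  have hdX : ∀ n (h : n + 1 ≤ g) w, dX n w = eqToHom (hXeq n (by omega)).symm
      (M.d (g - (n + 1)) (g - n) (eqToHom (hXeq _ h) w)) := fun n h w => by
    simp only [dX, dif_pos h]; rfl
  obtain ⟨n, hn, rfl⟩ : ∃ n, n + 1 ≤ g ∧ i = g - (n + 1) := ⟨g - i - 1, by omega, by omega⟩
  have hprev : ∀ m, m + 2 ≤ g → (ComplexShape.up ℕ).prev (g - (m + 1)) = g - (m + 2) := fun m hm => by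
    rw [show g - (m + 1) = (g - (m + 2)) + 1 by omega]
    exact CochainComplex.prev_nat_succ _
  have key := acyclicity rs hrs (fun n => X n) dX hfreeX (fun m w => ?_) g hXgt N0 (fun a ha v => ?_)
    (fun m w hw a ha => ?_) n (by omega)
  · refine (DMod.isZero_iff_subsingleton _).mpr
      ((DMod.subsingleton_homology_iff M (i := (ComplexShape.up ℕ).prev (g - (n + 1))) rfl
        (show (ComplexShape.up ℕ).next (g - (n + 1)) = g - n by rw [hnext]; omega)).mpr fun x hx => ?_)
    obtain ⟨y, hy⟩ := key (eqToHom (hXeq _ hn).symm x) (by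
      rw [hdX n hn, hinv' (hXeq _ hn), hx, map_zero])
    rcases le_or_gt (n + 2) g with h | h
    · rw [hprev n h]
      refine ⟨eqToHom (hXeq _ h) y, ?_⟩
      have h' := congrArg (eqToHom (hXeq _ hn)) hy
      rw [hinv' (hXeq _ hn), hdX (n + 1) h, hinv' (hXeq _ hn)] at h'
      exact h'
    · haveI := hXgt (n + 2) h
      rw [Subsingleton.elim y 0, map_zero] at hy
      refine ⟨0, ?_⟩
      have h' := congrArg (eqToHom (hXeq _ hn)) hy
      rw [map_zero, hinv' (hXeq _ hn)] at h'
      rw [map_zero]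
      exact h'
  · rcases le_or_gt (m + 2) g with h | h
    · rw [hdX (m + 1) h, hdX m (by omega), hinv' (hXeq _ (show m + 1 ≤ g by omega)),
        show M.d (g - (m + 1)) (g - m) (M.d (g - (m + 2)) (g - (m + 1)) _) = 0 from
          ConcreteCategory.congr_hom (M.d_comp_d _ _ _) _, map_zero]
    · haveI := hXgt (m + 2) h
      rw [Subsingleton.elim w 0, map_zero, map_zero]
  · have hz : M.d g (g + 1) (eqToHom (hXeq 0 (Nat.zero_le g)) v) = 0 := by
      haveI := ModuleCat.subsingleton_of_isZero (hbd (g + 1) (by omega))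
      exact Subsingleton.elim _ _
    rcases Nat.eq_zero_or_pos g with hg | hg
    · omega
    obtain ⟨u, hu⟩ := hbound g (g - 1) (by
      obtain ⟨g', rfl⟩ : ∃ g', g = g' + 1 := ⟨g - 1, by omega⟩
      exact CochainComplex.prev_nat_succ _) le_rfl (eqToHom (hXeq 0 (Nat.zero_le g)) v) hz a ha
    refine ⟨eqToHom (hXeq 1 hg).symm u, ?_⟩
    have e : eqToHom (hXeq 0 (Nat.zero_le g)).symm (M.d (g - 1) g u) = a • v := by
      rw [show M.d (g - 1) g u = a • eqToHom (hXeq 0 (Nat.zero_le g)) v from hu, map_smul,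
        hinv (hXeq 0 (Nat.zero_le g))]
    rw [hdX 0 hg, hinv' (hXeq 1 hg)]
    exact e
  · rcases le_or_gt (m + 1) g with h | h
    swap
    · haveI := hXgt (m + 1) h
      exact ⟨0, Subsingleton.elim _ _⟩
    have hz : M.d (g - (m + 1)) (g - (m + 1) + 1) (eqToHom (hXeq _ h) w) = 0 := by
      rw [show g - (m + 1) + 1 = g - m by omega]
      have h' := congrArg (eqToHom (hXeq m (by omega))) hw
      rw [hdX m h, hinv' (hXeq m (by omega)), map_zero] at h'
      exact h'
    obtain ⟨u, hu⟩ := hbound (g - (m + 1)) ((ComplexShape.up ℕ).prev (g - (m + 1))) rfl (by omega)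
      (eqToHom (hXeq _ h) w) hz a ha
    rcases le_or_gt (m + 2) g with h2 | h2
    · revert u
      rw [hprev m h2]
      intro u hu
      refine ⟨eqToHom (hXeq _ h2).symm u, ?_⟩
      rw [hdX (m + 1) h2, hinv' (hXeq _ h2),
        show M.d (g - (m + 2)) (g - (m + 1)) u = a • eqToHom (hXeq _ h) w from hu, map_smul, hinv (hXeq _ h)]
    · rw [M.shape _ _ (by simp only [ComplexShape.up_Rel]; omega)] at hu
      refine ⟨0, ?_⟩
      have hu0 : (0 : M.X (g - (m + 1))) = a • eqToHom (hXeq _ h) w := hu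
      have h' := congrArg (eqToHom (hXeq _ h).symm) hu0
      rw [map_smul, map_zero, hinv (hXeq _ h)] at h'
      rw [map_zero]
      exact h'

end Groth.Agent.CanElt
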