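import Groth.Agent.Lib.CanElt.NITApply
import Groth.Agent.Lib.RegLoc.PD
import Groth.Agent.Lib.Goren.Basic
import Groth.Agent.Lib.Depth.CM
import Groth.Agent.Lib.Depth.BaseChange

/-! Auslander–Buchsbaum inequality, the zero-divisor theorem and Bass' question in characteristic `p`. -/

set_option autoImplicit false
set_option linter.style.haveILetI false
universe u

open IsLocalRing TensorProduct CategoryTheory Pointwise

namespace Groth.Agent.CanElt

open RegLoc

theorem isFiniteLength_of_pow {A : Type u} [CommRing A] [IsNoetherianRing A] [IsLocalRing A] (M : Type u)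
    [AddCommGroup M] [Module A M] [Module.Finite A M] (N : ℕ)
    (h : ∀ a ∈ maximalIdeal A ^ N, ∀ m : M, a • m = 0) : IsFiniteLength A M := by
  rw [isFiniteLength_iff_isNoetherian_isArtinian]
  refine ⟨inferInstance, ?_⟩
  let B := A ⧸ maximalIdeal A ^ N
  have ht : Module.IsTorsionBySet A M (maximalIdeal A ^ N : Ideal A) := fun x a => h a.1 a.2 x
  letI : Module B M := ht.module
  haveI : IsScalarTower A B M := ht.isScalarTower
  haveI : Module.Finite B M := Module.Finite.of_restrictScalars_finite A B M
  haveI : IsArtinianRing B := by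
    cases subsingleton_or_nontrivial B with
    | inl _ => infer_instance
    | inr _ =>
      haveI : IsLocalRing B := IsLocalRing.of_surjective' _ Ideal.Quotient.mk_surjective
      exact (isArtinianRing_iff_isNilpotent_maximalIdeal _).mpr ⟨N, by
        rw [← IsLocalRing.map_maximalIdeal_of_surjective _ (Ideal.Quotient.mk_surjective (I := maximalIdeal A ^ N)),
          ← Ideal.map_pow]
        exact Ideal.map_quotient_self _⟩
  exact isArtinian_of_surjective_algebraMap (R := B) Ideal.Quotient.mk_surjective

theorem exists_minimal_cover {A : Type u} [CommRing A] [IsNoetherianRing A] [IsLocalRing A] (M : Type u)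
    [AddCommGroup M] [Module A M] [Module.Finite A M] :
    ∃ (m : ℕ) (f : (Fin m → A) →ₗ[A] M), Function.Surjective f ∧
      ∀ w ∈ LinearMap.ker f, ∀ i, w i ∈ maximalIdeal A := by
  classical
  have hex : ∃ m, ∃ f : (Fin m → A) →ₗ[A] M, Function.Surjective f := Module.Finite.exists_fin' A M
  obtain ⟨f, hf⟩ := Nat.find_spec hex
  refine ⟨Nat.find hex, f, hf, fun w hw i => by_contra fun hi => ?_⟩
  obtain ⟨m, hm⟩ : ∃ m, Nat.find hex = m + 1 := ⟨Nat.find hex - 1, by have := i.isLt; omega⟩
  revert f hf w hw i hi
  rw [hm]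
  intro f hf w hw i hi
  obtain ⟨u, hu⟩ := notMem_maximalIdeal.mp hi
  let g : (Fin m → A) →ₗ[A] M := Fintype.linearCombination A fun j => f (Pi.single (i.succAbove j) 1)
  have hsingle : ∀ k, f (Pi.single k 1) ∈ LinearMap.range g := by
    have hother : ∀ j, f (Pi.single (i.succAbove j) 1) ∈ LinearMap.range g := fun j =>
      ⟨Pi.single j 1, by simp [g, Fintype.linearCombination_apply_single]⟩
    intro k
    rcases Fin.eq_self_or_eq_succAbove i k with rfl | ⟨j, rfl⟩
    · have hsum : w k • f (Pi.single k 1) + ∑ j, w (k.succAbove j) • f (Pi.single (k.succAbove j) 1) = 0 := by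
        rw [← Fin.sum_univ_succAbove (fun l => w l • f (Pi.single l 1)) k, ← LinearMap.mem_ker.mp hw]
        conv_rhs => rw [pi_eq_sum_univ' w]
        simp only [map_sum, map_smul]
      rw [add_eq_zero_iff_eq_neg] at hsum
      have : u.1 • f (Pi.single k 1) ∈ LinearMap.range g := by
        rw [hu, hsum]
        exact neg_mem (sum_mem fun j _ => Submodule.smul_mem _ _ (hother j))
      have h2 := Submodule.smul_mem _ (u⁻¹ : Aˣ).1 this
      rwa [smul_smul, Units.inv_mul, one_smul] at h2
    · exact hother j
  have hg : Function.Surjective g := LinearMap.range_eq_top.mp (eq_top_iff.mpr fun y _ => by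
    obtain ⟨v, rfl⟩ := hf y
    rw [pi_eq_sum_univ' v, map_sum]
    exact sum_mem fun k _ => by rw [map_smul]; exact Submodule.smul_mem _ _ (hsingle k))
  exact Nat.find_min hex (show m < Nat.find hex by omega) ⟨g, hg⟩

theorem projective_of_depth_zero {A : Type u} [CommRing A] [IsNoetherianRing A] [IsLocalRing A]
    (hdepth : LocCoh.depth A A = 0) : ∀ (n : ℕ) (M : Type u) [AddCommGroup M] [Module A M]
      [Module.Finite A M], PD A M n → Module.Projective A M
  | 0, M, _, _, _, h => pd_zero_iff.mp h
  | n + 1, M, _, _, _, h => by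
    obtain ⟨m, f, hf, hmin⟩ := exists_minimal_cover (A := A) M
    haveI : Module.Finite A (LinearMap.ker f) := Module.Finite.iff_fg.2 (IsNoetherian.noetherian _)
    haveI := projective_of_depth_zero hdepth n (LinearMap.ker f) ((pd_succ_iff f hf).mp h)
    haveI : Module.Free A (LinearMap.ker f) := Module.free_of_flat_of_isLocalRing
    obtain ⟨a, ha0, ha⟩ := DepthLib.exists_ne_zero_smul_eq_zero (R := A) (M := A) (I := maximalIdeal A)
      (fun r hr hreg => by
        have := DepthLib.one_le_idealDepth_of_regular hr hreg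
        rw [show LocCoh.idealDepth (maximalIdeal A) A = 0 from hdepth] at this
        exact absurd this (by simp))
    have hker : ∀ w : LinearMap.ker f, w = 0 := by
      intro w
      let b := Module.Free.chooseBasis A (LinearMap.ker f)
      rw [← b.repr.map_eq_zero_iff]
      ext j
      have h0 : a • b j = 0 := Subtype.ext (funext fun i => by
        have := ha _ (hmin _ (b j).2 i)
        simpa [smul_eq_mul, mul_comm] using this)
      exact absurd (by simpa using congrArg (fun v => b.repr v j) h0) ha0
    exact Module.Projective.of_equiv (LinearEquiv.ofBijective f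
      ⟨LinearMap.ker_eq_bot.mp ((Submodule.eq_bot_iff _).mpr fun w hw => congrArg Subtype.val (hker ⟨w, hw⟩)), hf⟩)

/-- `pd M ≤ depth A`. -/
theorem pd_le_depth : ∀ (t : ℕ) (A : Type u) [CommRing A] [IsNoetherianRing A] [IsLocalRing A],
    LocCoh.depth A A = t → ∀ (M : Type u) [AddCommGroup M] [Module A M] [Module.Finite A M],
      (∃ n, PD A M n) → PD A M t
  | 0, A, _, _, _, ht, M, _, _, _, ⟨n, h⟩ => pd_zero_iff.mpr (projective_of_depth_zero ht n M h)
  | t + 1, A, _, _, _, ht, M, _, _, _, ⟨n, h⟩ => by
    obtain ⟨x, hx, hreg⟩ := DepthLib.exists_isSMulRegular_of_one_le_idealDepth (R := A) (M := A)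
      (DepthLib.smul_top_ne_top (maximalIdeal.isMaximal A).ne_top)
      (show 1 ≤ LocCoh.idealDepth (maximalIdeal A) A by
        rw [show LocCoh.idealDepth (maximalIdeal A) A = _ from ht]; exact_mod_cast Nat.succ_pos t)
    obtain ⟨m, f, hf⟩ := Module.Finite.exists_fin' A M
    haveI : Module.Finite A (LinearMap.ker f) := Module.Finite.iff_fg.2 (IsNoetherian.noetherian _)
    have hK : IsSMulRegular (LinearMap.ker f) x := fun a b e =>
      Subtype.ext (funext fun i => hreg (congrFun (congrArg Subtype.val e) i))
    haveI := GorenLib.isLocalRing_quotient hx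
    have hd : LocCoh.depth (A ⧸ Ideal.span {x}) (A ⧸ Ideal.span {x}) = t := by
      have e := GorenLib.depth_quotient_add_one hx hreg
      rw [ht, Nat.cast_succ] at e
      exact (ENat.add_left_injective_of_ne_top ENat.one_ne_top) e
    haveI : Module.Finite (A ⧸ Ideal.span {x}) (QuotSMulTop x (LinearMap.ker f)) :=
      Module.Finite.of_restrictScalars_finite A _ _
    rw [pd_succ_iff f hf, pd_quotSMulTop_iff hx hreg _ hK]
    exact pd_le_depth t _ hd _ ⟨n, (pd_quotSMulTop_iff hx hreg _ hK).mp
      ((pd_succ_iff f hf).mp (h.mono (Nat.le_succ n)))⟩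

/-- With a regular element, `pd M < depth A`. -/
theorem pd_lt_depth_of_regular {A : Type u} [CommRing A] [IsNoetherianRing A] [IsLocalRing A]
    (M : Type u) [AddCommGroup M] [Module A M] [Module.Finite A M] [Nontrivial M] (hM : ∃ n, PD A M n)
    {x : A} (hx : x ∈ maximalIdeal A) (hreg : IsSMulRegular M x) :
    ∃ t : ℕ, LocCoh.depth A A = (t + 1 : ℕ) ∧ PD A M t := by
  obtain ⟨t₀, ht₀⟩ := DepthLib.exists_depth_eq_natCast (R := A) (M := A)
  rcases t₀ with - | t
  · exfalso
    obtain ⟨n, hn⟩ := hM
    haveI := projective_of_depth_zero (by exact_mod_cast ht₀) n M hn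
    haveI : Module.Free A M := Module.free_of_flat_of_isLocalRing
    obtain ⟨a, ha0, ha⟩ := DepthLib.exists_ne_zero_smul_eq_zero (R := A) (M := A) (I := maximalIdeal A)
      (fun r hr h => by
        have := DepthLib.one_le_idealDepth_of_regular hr h
        rw [show LocCoh.idealDepth (maximalIdeal A) A = 0 from by exact_mod_cast ht₀] at this
        exact absurd this (by simp))
    let b := Module.Free.chooseBasis A M
    obtain ⟨j⟩ := b.index_nonempty
    have h0 : a • b j = 0 := hreg (by
      show x • (a • b j) = x • (0 : M)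
      rw [smul_zero, smul_smul, show x * a = 0 from ha x hx, zero_smul])
    exact ha0 (by simpa using congrArg (fun v => b.repr v j) h0)
  refine ⟨t, ht₀, ?_⟩
  -- a common regular element
  by_cases hex : ∃ y ∈ maximalIdeal A, IsSMulRegular M y ∧ IsSMulRegular A y
  · obtain ⟨y, hy, hyM, hyA⟩ := hex
    haveI := GorenLib.isLocalRing_quotient hy
    have hd : LocCoh.depth (A ⧸ Ideal.span {y}) (A ⧸ Ideal.span {y}) = t := by
      have e := GorenLib.depth_quotient_add_one hy hyA
      rw [ht₀, Nat.cast_succ] at e
      exact (ENat.add_left_injective_of_ne_top ENat.one_ne_top) e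
    haveI : Module.Finite (A ⧸ Ideal.span {y}) (QuotSMulTop y M) :=
      Module.Finite.of_restrictScalars_finite A _ _
    obtain ⟨n, hn⟩ := hM
    exact (pd_quotSMulTop_iff hy hyA _ hyM).mpr
      (pd_le_depth t _ hd _ ⟨n, (pd_quotSMulTop_iff hy hyA _ hyM).mp hn⟩)
  · exfalso
    push Not at hex
    have hfin := (associatedPrimes.finite A M).union (associatedPrimes.finite A A)
    have hsub : (maximalIdeal A : Set A) ⊆ ⋃ q ∈ (hfin.toFinset : Set (Ideal A)), (q : Set A) := by
      intro y hy
      rw [Set.Finite.coe_toFinset, Set.biUnion_union, biUnion_associatedPrimes_eq_compl_regular,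
        biUnion_associatedPrimes_eq_compl_regular]
      by_cases h : IsSMulRegular M y
      · exact Or.inr (hex y hy h)
      · exact Or.inl h
    obtain ⟨q, hq, hle⟩ := (Ideal.subset_union_prime (f := id) (⊥ : Ideal A) ⊥
      (fun q hq _ _ => (hfin.mem_toFinset.1 hq).elim IsAssociatedPrime.isPrime IsAssociatedPrime.isPrime)).1
      (by simpa using hsub)
    rcases hfin.mem_toFinset.1 hq with h | h
    · obtain ⟨z, hz, hzm⟩ : ∃ z : M, z ≠ 0 ∧ x • z = 0 := by
        obtain ⟨hprime, z, hz⟩ := isAssociatedPrime_iff.1 h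
        have hxq := hle hx
        rw [id, hz] at hxq
        refine ⟨z, ?_, by simpa using hxq⟩
        rintro rfl
        exact hprime.ne_top (hz.trans (by ext; simp))
      exact hz (hreg (show x • z = x • (0 : M) by rw [smul_zero, hzm]))
    · have := DepthLib.depth_le_of_mem_associatedPrimes (M := A) h
      have hq' : q = maximalIdeal A := le_antisymm (le_maximalIdeal (IsAssociatedPrime.isPrime h).ne_top) hle
      subst hq'
      rw [ht₀] at this
      have h0 : ringKrullDim (A ⧸ maximalIdeal A) = 0 := ringKrullDim_eq_zero_of_isField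
        ((Ideal.Quotient.maximal_ideal_iff_isField_quotient _).mp (maximalIdeal.isMaximal A))
      rw [h0] at this
      exact absurd (WithBot.coe_le_coe.mp this) (by simp)

/-- The zero-divisor theorem in characteristic `p`. -/
theorem zero_divisor : ∀ (d : ℕ) (A : Type u) [CommRing A] [IsNoetherianRing A] [IsLocalRing A]
    (p : ℕ) [Fact p.Prime] [CharP A p], ringKrullDim A ≤ (d : WithBot ℕ∞) →
    ∀ (M : Type u) [AddCommGroup M] [Module A M] [Module.Finite A M] [Nontrivial M], (∃ n, PD A M n) →
      ∀ x : A, IsSMulRegular M x → IsSMulRegular A x := by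
  intro d
  induction d using Nat.strong_induction_on with
  | _ d ih =>
    intro A _ _ _ p _ _ hd M _ _ _ _ hM x hx
    by_cases hxu : IsUnit x
    · exact fun a b e => hxu.mul_left_cancel e
    have hxm : x ∈ maximalIdeal A := hxu
    by_contra hxA
    have hxU : x ∈ ⋃ P ∈ associatedPrimes A A, (P : Set A) := by
      rw [biUnion_associatedPrimes_eq_compl_regular]; exact hxA
    rw [Set.mem_iUnion₂] at hxU
    obtain ⟨P, hP, hxP⟩ := hxU
    obtain ⟨hPp, a, hPa⟩ := isAssociatedPrime_iff.1 hP
    by_cases hex : ∃ q : PrimeSpectrum A, q ∈ Module.support A M ∧ P ≤ q.asIdeal ∧ q.asIdeal ≠ maximalIdeal A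
    · obtain ⟨q, hqM, hPq, hqm⟩ := hex
      let Aq := Localization.AtPrime q.asIdeal
      haveI : CharP Aq p := by
        refine (CharP.charP_iff_prime_eq_zero Fact.out).mpr ?_
        rw [← map_natCast (algebraMap A Aq), CharP.cast_eq_zero, map_zero]
      obtain ⟨n, hn⟩ := hM
      haveI : Nontrivial (LocalizedModule q.asIdeal.primeCompl M) := hqM
      obtain ⟨e, he⟩ := exists_dim Aq
      have hlt : (e : WithBot ℕ∞) < d := by
        rw [← he, IsLocalization.AtPrime.ringKrullDim_eq_height q.asIdeal Aq]
        have hq' : q.asIdeal.height < (maximalIdeal A).height :=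
          Ideal.height_strict_mono_of_isPrime_of_isPrime (lt_of_le_of_ne (le_maximalIdeal q.2.ne_top) hqm)
        refine lt_of_lt_of_le (WithBot.coe_lt_coe.mpr hq') ?_
        rw [maximalIdeal_height_eq_ringKrullDim]
        exact hd
      have hreg' := ih e (by exact_mod_cast hlt) Aq p he.le (LocalizedModule q.asIdeal.primeCompl M)
        ⟨n, pd_localizedModule q.asIdeal.primeCompl M hn⟩ (algebraMap A Aq x) (by
          exact (hx.of_flat_of_isBaseChange (IsLocalizedModule.isBaseChange q.asIdeal.primeCompl Aq
            (LocalizedModule.mkLinearMap q.asIdeal.primeCompl M))))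
      have h0 : algebraMap A Aq a = 0 := hreg' (by
        show algebraMap A Aq x • algebraMap A Aq a = algebraMap A Aq x • (0 : Aq)
        rw [smul_zero, smul_eq_mul, ← map_mul]
        have : x ∈ P := hxP
        rw [hPa] at this
        rw [show x * a = 0 by simpa [smul_eq_mul] using this, map_zero])
      obtain ⟨s, hs⟩ := (IsLocalization.map_eq_zero_iff q.asIdeal.primeCompl Aq a).mp h0
      exact s.2 (hPq (by rw [hPa]; simpa [smul_eq_mul] using hs))
    · push Not at hex
      haveI : Module.Finite A (M ⊗[A] (A ⧸ P)) := inferInstance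
      have hrad : maximalIdeal A ≤ (Module.annihilator A M ⊔ P).radical := by
        rw [Ideal.radical_eq_sInf]
        refine le_sInf fun Q ⟨hQ, hQp⟩ => ?_
        exact (hex ⟨Q, hQp⟩ (Module.mem_support_iff_of_finite.mpr (le_sup_left.trans hQ)) (le_sup_right.trans hQ)).ge
      obtain ⟨N0, hN0⟩ := Ideal.exists_pow_le_of_le_radical_of_fg hrad (IsNoetherian.noetherian _)
      have hfl : IsFiniteLength A (M ⊗[A] (A ⧸ P)) := isFiniteLength_of_pow _ N0 fun b hb z => by
        obtain ⟨b₁, hb₁, b₂, hb₂, rfl⟩ := Submodule.mem_sup.mp (hN0 hb)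
        induction z with
        | zero => rw [smul_zero]
        | tmul m v =>
          have hv : b₂ • v = 0 := by
            obtain ⟨v, rfl⟩ := Ideal.Quotient.mk_surjective v
            rw [← Ideal.Quotient.mk_eq_mk, ← Submodule.Quotient.mk_smul]
            exact (Submodule.Quotient.mk_eq_zero _).mpr (Ideal.mul_mem_right _ _ hb₂)
          rw [add_smul, TensorProduct.smul_tmul', Module.mem_annihilator.mp hb₁, TensorProduct.zero_tmul,
            ← TensorProduct.tmul_smul, hv, TensorProduct.tmul_zero, add_zero]
        | add u v hu hv => rw [smul_add, hu, hv, add_zero]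
      obtain ⟨t, ht, htM⟩ := pd_lt_depth_of_regular M hM hxm hx
      have h1 := intersection A p M (A ⧸ P) t htM hfl
      rw [Module.supportDim_quotient_eq_ringKrullDim] at h1
      have h2 := DepthLib.depth_le_of_mem_associatedPrimes (M := A) hP
      rw [ht] at h2
      exact absurd (h2.trans h1) (by exact_mod_cast Nat.not_succ_le_self t)

/-- A finite length module of finite projective dimension forces Cohen–Macaulayness. -/
theorem isCM_of_finiteLength (A : Type u) [CommRing A] [IsNoetherianRing A] [IsLocalRing A]
    (p : ℕ) [Fact p.Prime] [CharP A p] (M : Type u) [AddCommGroup M] [Module A M] [Module.Finite A M]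
    [Nontrivial M] (hfl : IsFiniteLength A M) (hM : ∃ n, PD A M n) :
    LocCoh.IsCohenMacaulayLocalRing A := by
  obtain ⟨t, ht⟩ := DepthLib.exists_depth_eq_natCast (R := A) (M := A)
  have h1 := intersection A p M A t (pd_le_depth t A ht M hM) (by
    obtain ⟨N0, hN0⟩ := exists_pow_smul_eq_zero M hfl
    exact isFiniteLength_of_pow _ N0 fun b hb z => by
      induction z with
      | zero => rw [smul_zero]
      | tmul m v => rw [TensorProduct.smul_tmul', hN0 b hb, TensorProduct.zero_tmul]
      | add u v hu hv => rw [smul_add, hu, hv, add_zero])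
  exact { supportDim_eq_depth := le_antisymm (h1.trans (le_of_eq (by rw [ht]; rfl))) DepthLib.depth_le_supportDim }

end Groth.Agent.CanElt
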