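import Groth.Agent.Lib.CanElt.AB

/-! The acyclicity lemma for complexes with finite length homology, and the top of a minimal complex. -/

set_option autoImplicit false
set_option linter.style.haveILetI false
universe u

open IsLocalRing CategoryTheory Pointwise RingTheory.Sequence TensorProduct

namespace Groth.Agent.CanElt

variable {A : Type u} [CommRing A] [IsLocalRing A]

theorem eq_zero_of_regular_of_killed {Q : Type u} [AddCommGroup Q] [Module A Q] {x : A}
    (hx : x ∈ maximalIdeal A) (h : ∀ q : Q, x • q = 0 → q = 0) (N : ℕ)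
    (hN : ∀ a ∈ maximalIdeal A ^ N, ∀ q : Q, a • q = 0) (q : Q) : q = 0 := by
  have key : ∀ (j : ℕ) (q : Q), x ^ j • q = 0 → q = 0 := by
    intro j
    induction j with
    | zero => intro q hq; rwa [pow_zero, one_smul] at hq
    | succ j ih => intro q hq; rw [pow_succ', mul_smul] at hq; exact ih q (h _ hq)
  exact key N q (hN _ (Ideal.pow_mem_pow hx N) q)

/-- The acyclicity lemma. -/
theorem acyclicity : ∀ (rs : List A), (∀ r ∈ rs, r ∈ maximalIdeal A) → ∀ (X : ℕ → Type u)
    [∀ n, AddCommGroup (X n)] [∀ n, Module A (X n)] (dX : ∀ n, X (n + 1) →ₗ[A] X n),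
    (∀ n, IsWeaklyRegular (X n) rs) → (∀ n w, dX n (dX (n + 1) w) = 0) →
    ∀ (k : ℕ), (∀ i, k < i → Subsingleton (X i)) → ∀ (N : ℕ),
    (∀ a ∈ maximalIdeal A ^ N, ∀ v : X 0, (a : A) • v ∈ LinearMap.range (dX 0)) →
    (∀ n (w : X (n + 1)), dX n w = 0 → ∀ a : A, a ∈ maximalIdeal A ^ N → a • w ∈ LinearMap.range (dX (n + 1))) →
    ∀ n, k < n + 1 + rs.length → ∀ w, dX n w = 0 → w ∈ LinearMap.range (dX (n + 1))
  | [], _, X, _, _, dX, _, _, k, hbd, _, _, _, n, hn, w, _ => by
    haveI := hbd (n + 1) (by simpa using hn)
    exact ⟨0, Subsingleton.elim _ _⟩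
  | x :: rs, hrs, X, _, _, dX, hreg, hd, k, hbd, N, hN0, hN, n, hn, w, hw => by
    have hx : x ∈ maximalIdeal A := hrs x List.mem_cons_self
    let X' : ℕ → Type u := fun i => QuotSMulTop x (X i)
    let dX' : ∀ i, X' (i + 1) →ₗ[A] X' i := fun i => QuotSMulTop.map x (dX i)
    have hreg0 : ∀ i (v : X i), x • v = 0 → v = 0 := fun i v hv =>
      ((isWeaklyRegular_cons_iff (X i) x rs).mp (hreg i)).1 (hv.trans (smul_zero x).symm)
    have hmk : ∀ i (v : X i), (Submodule.Quotient.mk v : X' i) = 0 ↔ ∃ u, x • u = v := fun i v => by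
      rw [Submodule.Quotient.mk_eq_zero, Submodule.mem_smul_pointwise_iff_exists]
      simp
    have hd' : ∀ i v, dX' i (dX' (i + 1) v) = 0 := fun i v => by
      obtain ⟨v, rfl⟩ := Submodule.Quotient.mk_surjective _ v
      show Submodule.Quotient.mk (dX i (dX (i + 1) v)) = (0 : X' i)
      rw [hd]; rfl
    have hbd' : ∀ i, k < i → Subsingleton (X' i) := fun i hi => by
      haveI := hbd i hi
      exact Function.Surjective.subsingleton (Submodule.Quotient.mk_surjective _)
    have hN0' : ∀ a ∈ maximalIdeal A ^ (N + N), ∀ v, a • v ∈ LinearMap.range (dX' 0) := fun a ha v => by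
      obtain ⟨v, rfl⟩ := Submodule.Quotient.mk_surjective _ v
      obtain ⟨u, hu⟩ := hN0 a (Ideal.pow_le_pow_right (Nat.le_add_right N N) ha) v
      exact ⟨Submodule.Quotient.mk u, congrArg Submodule.Quotient.mk hu⟩
    have hN' : ∀ i v, dX' i v = 0 → ∀ a ∈ maximalIdeal A ^ (N + N), a • v ∈ LinearMap.range (dX' (i + 1)) := by
      intro i v hv a ha
      obtain ⟨v, rfl⟩ := Submodule.Quotient.mk_surjective _ v
      obtain ⟨u, hu⟩ : ∃ u, x • u = dX i v := (hmk i _).mp hv
      have hu' : ∀ b ∈ maximalIdeal A ^ N, b • u ∈ LinearMap.range (dX i) := fun b hb => by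
        cases i with
        | zero => exact hN0 b hb u
        | succ j => exact hN j u (hreg0 _ _ (by rw [← map_smul, hu, hd])) b hb
      rw [pow_add] at ha
      refine Submodule.smul_induction_on ha (fun b hb c hc => ?_)
        (fun b c hb hc => by rw [add_smul]; exact add_mem hb hc)
      obtain ⟨u', hu'⟩ := hu' c hc
      obtain ⟨z, hz⟩ := hN i (c • v - x • u') (by
        rw [map_sub, map_smul, map_smul, hu', ← hu, smul_comm, sub_self]) b hb
      refine ⟨Submodule.Quotient.mk z, ?_⟩
      show Submodule.Quotient.mk (dX (i + 1) z) = (b • c) • (Submodule.Quotient.mk v : X' (i + 1))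
      rw [← Submodule.Quotient.mk_smul, Submodule.Quotient.eq, hz, smul_eq_mul, mul_smul, ← smul_sub]
      exact Submodule.smul_mem _ _ ((Submodule.mem_smul_pointwise_iff_exists _ _ _).mpr
        ⟨-u', trivial, by rw [smul_neg]; abel⟩)
    have ih := acyclicity rs (fun r hr => hrs r (List.mem_cons_of_mem _ hr)) X' dX'
      (fun i => ((isWeaklyRegular_cons_iff (X i) x rs).mp (hreg i)).2) hd' k hbd' (N + N) hN0' hN' (n + 1)
      (by simp only [List.length_cons] at hn; omega)
    let Z := LinearMap.ker (dX n)
    let Q := Z ⧸ Submodule.comap Z.subtype (LinearMap.range (dX (n + 1)))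
    have hQ : ∀ z : Z, (Submodule.Quotient.mk z : Q) = 0 ↔ (z : X (n + 1)) ∈ LinearMap.range (dX (n + 1)) :=
      fun z => Submodule.Quotient.mk_eq_zero _
    refine (hQ ⟨w, hw⟩).mp (eq_zero_of_regular_of_killed hx (fun q hq => ?_) N (fun a ha q => ?_) _)
    · obtain ⟨⟨v, hv⟩, rfl⟩ := Submodule.Quotient.mk_surjective _ q
      rw [← Submodule.Quotient.mk_smul, hQ] at hq
      obtain ⟨u, hu⟩ := hq
      obtain ⟨z, hz⟩ := ih (Submodule.Quotient.mk u) ((hmk (n + 1) _).mpr ⟨v, hu.symm⟩)
      obtain ⟨z, rfl⟩ := Submodule.Quotient.mk_surjective _ z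
      obtain ⟨u', hu'⟩ := (hmk (n + 2) _).mp (show (Submodule.Quotient.mk (u - dX (n + 2) z) : X' (n + 2)) = 0 by
        rw [Submodule.Quotient.mk_sub, sub_eq_zero]; exact hz.symm)
      rw [hQ]
      refine ⟨u', sub_eq_zero.mp (hreg0 _ _ ?_)⟩
      rw [smul_sub, ← map_smul, hu', map_sub, hd, sub_zero, hu]
      exact sub_self _
    · obtain ⟨⟨v, hv⟩, rfl⟩ := Submodule.Quotient.mk_surjective _ q
      rw [← Submodule.Quotient.mk_smul, hQ]
      exact hN n v hv a ha

theorem isWeaklyRegular_of_free {rs : List A} (h : IsWeaklyRegular A rs) (M : Type u) [AddCommGroup M]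
    [Module A M] [Module.Flat A M] : IsWeaklyRegular M rs :=
  (LinearEquiv.isWeaklyRegular_congr (TensorProduct.lid A M) rs).mp
    h.isWeaklyRegular_rTensor

open RegLoc in
/-- In a minimal complex with nonzero top `k`, some homology in degree `≥ k - depth A` is nonzero. -/
theorem exists_not_exact (A : Type u) [CommRing A] [IsNoetherianRing A] [IsLocalRing A]
    (X : ℕ → Type u) [∀ n, AddCommGroup (X n)] [∀ n, Module A (X n)] [∀ n, Module.Free A (X n)]
    [∀ n, Module.Finite A (X n)] (dX : ∀ n, X (n + 1) →ₗ[A] X n)
    (k : ℕ) (hbd : ∀ i, k + 1 < i → Subsingleton (X i)) (htop : Nontrivial (X (k + 1)))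
    (hmin : ∀ n w, dX n w ∈ maximalIdeal A • (⊤ : Submodule A (X n)))
    (d : ℕ) (hd : LocCoh.depth A A = d)
    (h0 : k + 1 ≤ d → Function.Surjective (dX 0))
    (hex : ∀ n, k + 1 ≤ n + 1 + d → ∀ w, dX n w = 0 → w ∈ LinearMap.range (dX (n + 1)))
    (hdd : ∀ n w, dX n (dX (n + 1) w) = 0) : False := by
  haveI := hbd (k + 2) (by omega)
  have hinj : Function.Injective (dX k) := by
    rw [injective_iff_map_eq_zero]
    intro w hw
    obtain ⟨v, rfl⟩ := hex k (by omega) w hw
    rw [Subsingleton.elim v 0, map_zero]
  rcases Nat.eq_zero_or_pos d with rfl | hd0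
  · obtain ⟨a, ha0, ha⟩ := DepthLib.exists_ne_zero_smul_eq_zero (R := A) (M := A) (I := maximalIdeal A)
      (fun r hr h => by
        have := DepthLib.one_le_idealDepth_of_regular hr h
        rw [show LocCoh.idealDepth (maximalIdeal A) A = 0 from by exact_mod_cast hd] at this
        exact absurd this (by simp))
    let b := Module.Free.chooseBasis A (X (k + 1))
    obtain ⟨j⟩ := b.index_nonempty
    have h1 : a • b j = 0 := hinj (by
      rw [map_zero, map_smul]
      refine Submodule.smul_induction_on (hmin k (b j)) (fun r hr y _ => ?_)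
        (fun y z hy hz => by rw [smul_add, hy, hz, add_zero])
      rw [smul_smul, mul_comm, show r * a = 0 from ha r hr, zero_smul])
    exact ha0 (by simpa using congrArg (fun v => b.repr v j) h1)
  -- projectivity of the penultimate image
  let R : ∀ n, Submodule A (X n) := fun n => LinearMap.range (dX n)
  haveI : ∀ n, Module.Finite A (R n) := fun n => Module.Finite.range _
  have hker : ∀ n, k + 1 ≤ n + 1 + d → LinearMap.ker (dX n).rangeRestrict = R (n + 1) := fun n hn => by
    rw [LinearMap.ker_rangeRestrict]
    refine le_antisymm (fun w hw => hex n hn w hw) ?_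
    rintro _ ⟨v, rfl⟩
    exact hdd n v
  have hdown : ∀ j n e, k + 1 ≤ n + 1 + d → PD A (R n) e → PD A (R (n + j)) (e - j) := by
    intro j
    induction j with
    | zero => exact fun n e _ h => h
    | succ j ih =>
      intro n e hn h
      have h' : PD A (R n) (e - 1 + 1) := h.mono (by omega)
      rw [pd_succ_iff (dX n).rangeRestrict (dX n).surjective_rangeRestrict, hker n hn] at h'
      have := ih (n + 1) (e - 1) (by omega) h'
      rwa [show n + 1 + j = n + (j + 1) by omega, Nat.sub_sub, Nat.add_comm 1 j] at this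
  have hproj : Module.Projective A (R k) → False := by
    intro hR
    obtain ⟨s, hs⟩ := Module.projective_lifting_property (dX k).rangeRestrict LinearMap.id
      (dX k).surjective_rangeRestrict
    -- the top map is a split injection with image in the maximal ideal
    rcases Nat.eq_zero_or_pos k with hk | hk
    · subst hk
      have hs0 := h0 (by omega)
      obtain ⟨v, hv⟩ := exists_ne (0 : X 1)
      have : LinearMap.range (dX 0) = ⊥ := Submodule.eq_bot_of_le_smul_of_le_jacobson_bot (maximalIdeal A) _
        (Module.Finite.iff_fg.mp inferInstance) (fun y _ => by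
          obtain ⟨w, rfl⟩ := hs0 y
          rw [LinearMap.range_eq_top.mpr hs0]
          exact hmin 0 w) (maximalIdeal_le_jacobson _)
      exact hv (hinj (by rw [map_zero]; exact (Submodule.eq_bot_iff _).mp this _ ⟨v, rfl⟩))
    · obtain ⟨m, rfl⟩ : ∃ m, k = m + 1 := ⟨k - 1, by omega⟩
      have hRm : Module.Projective A (R m) → False := by
        intro hP
        obtain ⟨t, ht⟩ := Module.projective_lifting_property (dX m).rangeRestrict LinearMap.id
          (dX m).surjective_rangeRestrict
        have hmem : ∀ y, y - t ((dX m).rangeRestrict y) ∈ R (m + 1) := fun y => by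
          rw [← hker m (by omega), LinearMap.mem_ker, map_sub, ← LinearMap.comp_apply _ t, ht,
            LinearMap.id_apply, sub_self]
        let r : X (m + 1) →ₗ[A] X (m + 2) := s ∘ₗ (LinearMap.id - t ∘ₗ (dX m).rangeRestrict).codRestrict _ hmem
        have hr : ∀ v, r (dX (m + 1) v) = v := fun v => by
          refine hinj ?_
          show dX (m + 1) (s _) = _
          have := congrArg Subtype.val (LinearMap.congr_fun hs
            ((LinearMap.id - t ∘ₗ (dX m).rangeRestrict).codRestrict _ hmem (dX (m + 1) v)))
          refine this.trans ?_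
          show dX (m + 1) v - t ((dX m).rangeRestrict (dX (m + 1) v)) = _
          rw [show (dX m).rangeRestrict (dX (m + 1) v) = 0 from Subtype.ext (hdd m v), map_zero, sub_zero]
        obtain ⟨v, hv⟩ := exists_ne (0 : X (m + 2))
        have h1 : (⊤ : Submodule A (X (m + 2))) ≤ maximalIdeal A • ⊤ := fun y _ => by
          have h := Submodule.mem_map_of_mem (f := r) (hmin (m + 1) y)
          rw [Submodule.map_smul'', hr] at h
          exact Submodule.smul_mono le_rfl le_top h
        exact hv ((Submodule.eq_bot_iff _).mp (Submodule.eq_bot_of_le_smul_of_le_jacobson_bot (maximalIdeal A) _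
          Module.Finite.fg_top h1 (maximalIdeal_le_jacobson _)) v trivial)
      rcases le_or_gt (m + 2) d with hle | hlt
      · refine hRm (pd_zero_iff.mp ?_)
        have hP0 : PD A (R 0) 0 := by
          rw [pd_zero_iff, show R 0 = ⊤ from LinearMap.range_eq_top.mpr (h0 hle)]
          exact Module.Projective.of_equiv Submodule.topEquiv.symm
        have := hdown m 0 0 (by omega) hP0
        rw [Nat.zero_add, Nat.zero_sub] at this
        exact this
      · refine hRm (pd_zero_iff.mp ?_)
        have hfin : ∀ j, m + 1 - j + 1 + d ≥ m + 2 → PD A (R (m + 1 - j)) j := by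
          intro j
          induction j with
          | zero =>
            intro _
            rw [pd_zero_iff]
            exact Module.Projective.of_equiv (LinearEquiv.ofInjective _ hinj)
          | succ j ih =>
            intro hj
            rcases Nat.lt_or_ge j (m + 1) with h | h
            · rw [pd_succ_iff (dX (m + 1 - (j + 1))).rangeRestrict (dX _).surjective_rangeRestrict,
                hker _ (by omega), show m + 1 - (j + 1) + 1 = m + 1 - j by omega]
              exact ih (by omega)
            · rw [show m + 1 - (j + 1) = m + 1 - j by omega]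
              exact (ih (by omega)).mono (Nat.le_succ j)
        obtain ⟨i0, hi0⟩ : ∃ i0, i0 + 1 + d = m + 2 := ⟨m + 1 - d, by omega⟩
        have hPD : PD A (R i0) (d - 1) := by
          cases subsingleton_or_nontrivial (R i0) with
          | inl h => exact PD.of_projective (h := Module.Projective.of_free) _
          | inr h =>
            obtain ⟨x, hx, hreg⟩ := DepthLib.exists_isSMulRegular_of_one_le_idealDepth (R := A) (M := A)
              (DepthLib.smul_top_ne_top (maximalIdeal.isMaximal A).ne_top)
              (show 1 ≤ LocCoh.idealDepth (maximalIdeal A) A by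
                rw [show LocCoh.idealDepth (maximalIdeal A) A = _ from hd]; exact_mod_cast hd0)
            have hxR : IsSMulRegular (R i0) x := fun a b e => Subtype.ext
              ((((isWeaklyRegular_singleton_iff _ _).mp (isWeaklyRegular_of_free
                ((isWeaklyRegular_singleton_iff A x).mpr hreg) (X i0)))) (congrArg Subtype.val e))
            obtain ⟨t, ht, htM⟩ := pd_lt_depth_of_regular (R i0)
              ⟨m + 1 - i0, by
                have := hfin (m + 1 - i0) (by omega)
                rwa [show m + 1 - (m + 1 - i0) = i0 by omega] at this⟩ hx hxR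
            rw [hd] at ht
            have ht' : d = t + 1 := by exact_mod_cast ht
            exact htM.mono (by omega)
        have := hdown (d - 1) i0 (d - 1) (by omega) hPD
        rwa [show i0 + (d - 1) = m by omega, Nat.sub_self] at this
    
  exact hproj (Module.Projective.of_equiv (LinearEquiv.ofInjective _ hinj))

end Groth.Agent.CanElt
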