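import Groth.Agent.Lib.CanElt.Koszul

/-! Lifting with a killer, and the core of the canonical element argument. -/

set_option autoImplicit false
set_option linter.style.haveILetI false
universe u

open CategoryTheory TensorProduct

namespace Groth.Agent.CanElt

section Lift

variable {D : Type u} [CommRing D] {X Y : ℕ → Type u} [∀ n, AddCommGroup (X n)] [∀ n, Module D (X n)]
  [∀ n, AddCommGroup (Y n)] [∀ n, Module D (Y n)]
  (dX : ∀ n, X (n + 1) →ₗ[D] X n) (dY : ∀ n, Y (n + 1) →ₗ[D] Y n)
  (hX : ∀ n (z : X (n + 2)), dX n (dX (n + 1) z) = 0)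

include hX

theorem exists_lift (c : D) (hkill : ∀ n (z : Y (n + 1)), dY n z = 0 → ∃ w, dY (n + 1) w = c • z)
    (hproj : ∀ n, Module.Projective D (X n)) (g0 : X 0 →ₗ[D] Y 0)
    (h0 : ∀ z, g0 (dX 0 z) ∈ LinearMap.range (dY 0)) (n : ℕ) :
    ∃ g : ∀ i, X i →ₗ[D] Y i, g 0 = c ^ n • g0 ∧
      ∀ i < n, ∀ z, dY i (g (i + 1) z) = g i (dX i z) := by
  induction n with
  | zero => exact ⟨fun i => if h : i = 0 then h ▸ g0 else 0, by simp, by simp⟩
  | succ n ih =>
    obtain ⟨g, hg0, hg⟩ := ih
    haveI := hproj (n + 1)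
    have hrange : ∀ z, c • g n (dX n z) ∈ LinearMap.range (dY n) := by
      intro z
      cases n with
      | zero =>
        rw [hg0, pow_zero, one_smul]
        exact Submodule.smul_mem _ _ (h0 z)
      | succ m =>
        obtain ⟨w, hw⟩ := hkill m (g (m + 1) (dX (m + 1) z)) (by
          rw [hg m (Nat.lt_succ_self m), hX, map_zero])
        exact ⟨w, hw⟩
    obtain ⟨φ, hφ⟩ := Module.projective_lifting_property (dY n).rangeRestrict
      ((c • (g n ∘ₗ dX n)).codRestrict _ hrange) (dY n).surjective_rangeRestrict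
    refine ⟨Function.update (fun i => c • g i) (n + 1) φ, ?_, fun i hi z => ?_⟩
    · rw [Function.update_of_ne (by omega), hg0, smul_smul, pow_succ']
    · rcases Nat.lt_succ_iff_lt_or_eq.mp hi with hlt | rfl
      · rw [Function.update_of_ne (by omega), Function.update_of_ne (by omega)]
        simp only [LinearMap.smul_apply, map_smul, hg i hlt]
      · rw [Function.update_self, Function.update_of_ne (by omega)]
        exact congrArg Subtype.val (LinearMap.congr_fun hφ z)

theorem exists_homotopy (c : D) (hkill : ∀ n (z : Y (n + 1)), dY n z = 0 → ∃ w, dY (n + 1) w = c • z)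
    (hproj : ∀ n, Module.Projective D (X n)) (u : ∀ i, X i →ₗ[D] Y i) (d : ℕ)
    (hu : ∀ i < d, ∀ z, dY i (u (i + 1) z) = u i (dX i z))
    (h0 : ∀ z, u 0 z ∈ LinearMap.range (dY 0)) (n : ℕ) (hn : n + 1 ≤ d) :
    ∃ (w : X (n + 1) →ₗ[D] Y (n + 1)) (h : X n →ₗ[D] Y (n + 1)),
      (∀ z, w z = c ^ (n + 1) • u (n + 1) z - h (dX n z)) ∧
      ∀ z, w z ∈ LinearMap.range (dY (n + 1)) := by
  induction n with
  | zero =>
    haveI := hproj 0
    obtain ⟨h, hh⟩ := Module.projective_lifting_property (dY 0).rangeRestrict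
      ((u 0).codRestrict _ h0) (dY 0).surjective_rangeRestrict
    refine ⟨c • (u 1 - h ∘ₗ dX 0), c • h, fun z => ?_, fun z => ?_⟩
    · simp [smul_sub]
    · obtain ⟨v, hv⟩ := hkill 0 ((u 1 - h ∘ₗ dX 0) z) (by
        have hh' : dY 0 (h (dX 0 z)) = u 0 (dX 0 z) := congrArg Subtype.val (LinearMap.congr_fun hh (dX 0 z))
        rw [LinearMap.sub_apply, map_sub, LinearMap.comp_apply, hh', hu 0 hn, sub_self])
      exact ⟨v, hv⟩
  | succ n ih =>
    obtain ⟨w, h, hw, hwr⟩ := ih (by omega)
    haveI := hproj (n + 1)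
    obtain ⟨h', hh'⟩ := Module.projective_lifting_property (dY (n + 1)).rangeRestrict
      (w.codRestrict _ hwr) (dY (n + 1)).surjective_rangeRestrict
    refine ⟨c • (c ^ (n + 1) • u (n + 2) - h' ∘ₗ dX (n + 1)), c • h', fun z => ?_, fun z => ?_⟩
    · simp [smul_sub, smul_smul, ← pow_succ']
    · obtain ⟨v, hv⟩ := hkill (n + 1) ((c ^ (n + 1) • u (n + 2) - h' ∘ₗ dX (n + 1)) z) (by
        have e : dY (n + 1) (h' (dX (n + 1) z)) = w (dX (n + 1) z) :=
          congrArg Subtype.val (LinearMap.congr_fun hh' (dX (n + 1) z))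
        rw [LinearMap.sub_apply, map_sub, LinearMap.comp_apply, e, LinearMap.smul_apply, map_smul,
          hu (n + 1) (by omega), hw, hX, map_zero, sub_zero, sub_self])
      exact ⟨v, hv⟩

end Lift

section Twist

variable {A D : Type u} [CommRing A] [CommRing D] [Algebra A D]

/-- comparison of the Koszul complex of `D` with the base change of the one of `A`. -/
noncomputable def jmap : ∀ (l : List A) (n : ℕ), KObj D D (l.map (algebraMap A D)) n →ₗ[D] D ⊗[A] KObj A A l n
  | [], 0 => (AlgebraTensorModule.rid A D D).symm.toLinearMap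
  | [], _ + 1 => 0
  | _ :: l, 0 => jmap l 0
  | _ :: l, n + 1 =>
    ((LinearMap.inl A (KObj A A l (n + 1)) (KObj A A l n)).baseChange D ∘ₗ jmap l (n + 1)).coprod
      ((LinearMap.inr A (KObj A A l (n + 1)) (KObj A A l n)).baseChange D ∘ₗ jmap l n)

theorem jmap_succ_apply (f : A) (l : List A) (n : ℕ) (a : KObj D D (l.map (algebraMap A D)) (n + 1))
    (b : KObj D D (l.map (algebraMap A D)) n) :
    jmap (f :: l) (n + 1) (a, b) =
      (LinearMap.inl A (KObj A A l (n + 1)) (KObj A A l n)).baseChange D (jmap l (n + 1) a) +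
      (LinearMap.inr A (KObj A A l (n + 1)) (KObj A A l n)).baseChange D (jmap l n b) := rfl

theorem jmap_zero : ∀ (l : List A) (z : KObj D D (l.map (algebraMap A D)) 0),
    jmap l 0 z = k0 D D (l.map (algebraMap A D)) z ⊗ₜ (k0 A A l).symm 1
  | [], _ => rfl
  | _ :: l, z => jmap_zero l z

theorem jmap_kd : ∀ (l : List A) (n : ℕ) (z : KObj D D (l.map (algebraMap A D)) (n + 1)),
    jmap l n (kd D D (l.map (algebraMap A D)) n z) = (kd A A l n).baseChange D (jmap l (n + 1) z)
  | [], n, z => by
    rw [show jmap ([] : List A) (n + 1) z = 0 from rfl, map_zero]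
    exact map_zero (jmap [] n)
  | f :: l, 0, (a, b) => by
    have h1 : ∀ t, (kd A A (f :: l) 0).baseChange D
        ((LinearMap.inl A (KObj A A l 1) (KObj A A l 0)).baseChange D t) = (kd A A l 0).baseChange D t := by
      intro t
      induction t with
      | zero => simp only [map_zero]; exact map_zero _
      | tmul x y =>
        simp only [LinearMap.baseChange_tmul, LinearMap.inl_apply]
        refine (LinearMap.baseChange_tmul _ _ _).trans (congrArg (x ⊗ₜ[A] ·) ?_)
        change kd A A l 0 y + f • (0 : KObj A A l 0) = _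
        rw [smul_zero, add_zero]
      | add x y hx hy =>
        rw [map_add, map_add, ← hx, ← hy]
        exact map_add _ _ _
    have h2 : ∀ t, (kd A A (f :: l) 0).baseChange D
        ((LinearMap.inr A (KObj A A l 1) (KObj A A l 0)).baseChange D t) = algebraMap A D f • t := by
      intro t
      induction t with
      | zero => simp only [map_zero, smul_zero]; rfl
      | tmul x y =>
        simp only [LinearMap.baseChange_tmul, LinearMap.inr_apply]
        refine (LinearMap.baseChange_tmul _ _ _).trans ?_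
        change x ⊗ₜ[A] (kd A A l 0 0 + f • y) = _
        rw [map_zero, zero_add, TensorProduct.tmul_smul, algebraMap_smul]
      | add x y hx hy =>
        rw [map_add, smul_add, ← hx, ← hy]
        exact map_add _ _ _
    rw [jmap_succ_apply]
    refine Eq.trans ?_ (map_add _ _ _).symm
    rw [h1, h2]
    change jmap l 0 (kd D D (l.map (algebraMap A D)) 0 a + algebraMap A D f • b) = _
    rw [map_add, map_smul, jmap_kd l 0 a]
    rfl
  | f :: l, n + 1, (a, b) => by
    have h1 : ∀ t, (kd A A (f :: l) (n + 1)).baseChange D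
        ((LinearMap.inl A (KObj A A l (n + 2)) (KObj A A l (n + 1))).baseChange D t) =
        (LinearMap.inl A (KObj A A l (n + 1)) (KObj A A l n)).baseChange D ((kd A A l (n + 1)).baseChange D t) := by
      intro t
      induction t with
      | zero => simp only [map_zero]; rfl
      | tmul x y =>
        simp only [LinearMap.baseChange_tmul, LinearMap.inl_apply]
        refine (LinearMap.baseChange_tmul _ _ _).trans (congrArg (x ⊗ₜ[A] ·) ?_)
        change (kd A A l (n + 1) y + f • (0 : KObj A A l (n + 1)), -kd A A l n 0) = (kd A A l (n + 1) y, 0)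
        rw [smul_zero, add_zero, map_zero, neg_zero]
      | add x y hx hy =>
        rw [map_add, map_add, map_add, ← hx, ← hy]
        exact map_add _ _ _
    have h2 : ∀ t, (kd A A (f :: l) (n + 1)).baseChange D
        ((LinearMap.inr A (KObj A A l (n + 2)) (KObj A A l (n + 1))).baseChange D t) =
        algebraMap A D f • (LinearMap.inl A (KObj A A l (n + 1)) (KObj A A l n)).baseChange D t -
          (LinearMap.inr A (KObj A A l (n + 1)) (KObj A A l n)).baseChange D ((kd A A l n).baseChange D t) := by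
      intro t
      induction t with
      | zero => simp only [map_zero, smul_zero, sub_zero]; rfl
      | tmul x y =>
        simp only [LinearMap.baseChange_tmul, LinearMap.inl_apply, LinearMap.inr_apply]
        refine (LinearMap.baseChange_tmul _ _ _).trans ?_
        rw [algebraMap_smul, ← TensorProduct.tmul_smul, ← TensorProduct.tmul_sub]
        refine congrArg (x ⊗ₜ[A] ·) ?_
        change (kd A A l (n + 1) 0 + f • y, -kd A A l n y) = _
        ext <;> simp
      | add x y hx hy =>
        rw [map_add, map_add, map_add, map_add, smul_add, add_sub_add_comm, ← hx, ← hy]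
        exact map_add _ _ _
    rw [jmap_succ_apply]
    refine Eq.trans ?_ (map_add _ _ _).symm
    rw [h1, h2]
    change jmap (f :: l) (n + 1)
      (kd D D (l.map (algebraMap A D)) (n + 1) a + algebraMap A D f • b,
        -kd D D (l.map (algebraMap A D)) n b) = _
    rw [jmap_succ_apply, map_add, map_smul, jmap_kd l (n + 1) a, map_neg, jmap_kd l n b, map_add, map_smul,
      map_neg, ← sub_eq_add_neg, add_sub_assoc]
    rfl

end Twist

theorem map_mem_smul_top {A M N : Type u} [CommRing A] [AddCommGroup M] [Module A M] [AddCommGroup N]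
    [Module A N] (I : Ideal A) (φ : M →ₗ[A] N) {x : M} (hx : x ∈ I • (⊤ : Submodule A M)) :
    φ x ∈ I • (⊤ : Submodule A N) := by
  have h := Submodule.mem_map_of_mem (f := φ) hx
  rw [Submodule.map_smul''] at h
  exact Submodule.smul_mono le_rfl le_top h

/-- The core, in general form: a chain map `φ` from the Koszul complex whose top component is in `J`,
an augmentation `ε` sending `φ 0 1` to `s` and boundaries into `(l)` up to the factor `c ^ M`, and a
killer `c` of the twisted Koszul homology give `c ^ (2d+M) s ∈ J`. -/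
theorem core' {A D : Type u} [CommRing A] [CommRing D] [Algebra A D] (l : List A) (J : Ideal D)
    (hl : Ideal.ofList (l.map (algebraMap A D)) ≤ J) {d : ℕ} (hd : l.length = d) (hd0 : 0 < d)
    (X : ℕ → Type u) [∀ n, AddCommGroup (X n)] [∀ n, Module A (X n)] [∀ n, Module.Free A (X n)]
    (dX : ∀ n, X (n + 1) →ₗ[A] X n) (hX : ∀ n (z : X (n + 2)), dX n (dX (n + 1) z) = 0)
    (φ : ∀ n, KObj A A l n →ₗ[A] X n) (hφ : ∀ n < d, ∀ z, dX n (φ (n + 1) z) = φ n (kd A A l n z))
    (ε : X 0 →ₗ[A] A) (s : A) (M : ℕ) (c : D) (hε1 : ε (φ 0 ((k0 A A l).symm 1)) - s ∈ Ideal.ofList l)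
    (hε2 : ∀ z, c ^ M * algebraMap A D (ε (dX 0 z)) ∈ Ideal.ofList (l.map (algebraMap A D)))
    (htop : ∀ z : D ⊗[A] KObj A A l d, (φ d).baseChange D z ∈ J • (⊤ : Submodule D (D ⊗[A] X d)))
    (hkill : Killed D D (l.map (algebraMap A D)) c) :
    c ^ (2 * d + M) * algebraMap A D s ∈ J := by
  subst hd
  let lD := l.map (algebraMap A D)
  have hlD : Ideal.ofList lD = (Ideal.ofList l).map (algebraMap A D) := (Ideal.map_ofList _ _).symm
  have hlen : lD.length = l.length := List.length_map _
  let Y : ℕ → Type u := fun n => KObj D D lD n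
  let DX : ∀ n, D ⊗[A] X (n + 1) →ₗ[D] D ⊗[A] X n := fun n => (dX n).baseChange D
  have hDX : ∀ n (z : D ⊗[A] X (n + 2)), DX n (DX (n + 1) z) = 0 := fun n z => by
    simp only [DX, ← LinearMap.comp_apply, ← LinearMap.baseChange_comp,
      show dX n ∘ₗ dX (n + 1) = 0 from LinearMap.ext (hX n), LinearMap.baseChange_zero, LinearMap.zero_apply]
  let ρ : D ⊗[A] X 0 →ₗ[D] D :=
    c ^ M • ((AlgebraTensorModule.rid A D D).toLinearMap ∘ₗ ε.baseChange D)
  have hρ : ∀ (a : D) (x : X 0), ρ (a ⊗ₜ x) = c ^ M * (algebraMap A D (ε x) * a) := fun a x => by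
    simp [ρ, Algebra.smul_def, smul_eq_mul]
  let g0 : D ⊗[A] X 0 →ₗ[D] KObj D D lD 0 := (k0 D D lD).symm.toLinearMap ∘ₗ ρ
  have hg0 : ∀ z, g0 (DX 0 z) ∈ LinearMap.range (kd D D lD 0) := by
    intro z
    rw [mem_range_kd_zero, smul_eq_mul, Ideal.mul_top]
    simp only [g0, LinearMap.comp_apply, LinearEquiv.coe_coe, LinearEquiv.apply_symm_apply]
    induction z with
    | zero => simp
    | tmul a x =>
      simp only [DX, LinearMap.baseChange_tmul, hρ, ← mul_assoc]
      exact Ideal.mul_mem_right _ _ (hε2 x)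
    | add a b ha hb => simp only [map_add]; exact add_mem ha hb
  obtain ⟨g, hgz, hg⟩ := exists_lift (X := fun n => D ⊗[A] X n) (Y := Y) DX (kd D D lD) hDX c hkill
    (fun n => inferInstance) g0 hg0 l.length
  let u : ∀ i, KObj D D lD i →ₗ[D] Y i := fun i =>
    g i ∘ₗ (φ i).baseChange D ∘ₗ jmap l i - (c ^ (l.length + M) * algebraMap A D s) • LinearMap.id
  have hu : ∀ i < l.length, ∀ z, kd D D lD i (u (i + 1) z) = u i (kd D D lD i z) := by
    intro i hi z
    simp only [u, LinearMap.sub_apply, LinearMap.comp_apply, LinearMap.smul_apply, LinearMap.id_apply,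
      map_sub, map_smul, hg i hi]
    congr 2
    change (dX i).baseChange D ((φ (i + 1)).baseChange D (jmap l (i + 1) z)) = (φ i).baseChange D (jmap l i (kd D D _ i z))
    rw [jmap_kd, ← LinearMap.comp_apply, ← LinearMap.baseChange_comp,
      show dX i ∘ₗ φ (i + 1) = φ i ∘ₗ kd A A l i from LinearMap.ext (hφ i hi),
      LinearMap.baseChange_comp, LinearMap.comp_apply]
  have hu0 : ∀ z, u 0 z ∈ LinearMap.range (kd D D lD 0) := by
    intro z
    rw [mem_range_kd_zero, smul_eq_mul, Ideal.mul_top]
    simp only [u, LinearMap.sub_apply, LinearMap.comp_apply, LinearMap.smul_apply, LinearMap.id_apply, hgz,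
      jmap_zero, LinearMap.baseChange_tmul, g0, LinearEquiv.coe_coe, map_smul, map_sub, hρ,
      LinearEquiv.apply_symm_apply, smul_eq_mul, lD]
    rw [pow_add, show ∀ a b : D, c ^ l.length * (c ^ M * (a * b)) -
        c ^ l.length * c ^ M * algebraMap A D s * b =
        c ^ l.length * c ^ M * b * (a - algebraMap A D s) from fun a b => by ring, ← map_sub]
    refine Ideal.mul_mem_left _ _ ?_
    rw [← Ideal.map_ofList]
    exact Ideal.mem_map_of_mem _ hε1
  obtain ⟨k, hk⟩ : ∃ k, l.length = k + 1 := ⟨l.length - 1, by omega⟩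
  obtain ⟨w, h, hw, hwr⟩ := exists_homotopy (X := Y) (Y := Y) (kd D D lD) (kd D D lD) (kd_kd D D lD) c
    hkill (fun n => projective_KObj D D lD n) u l.length hu hu0 k (by omega)
  haveI : Subsingleton (Y (k + 1 + 1)) := subsingleton_KObj D D lD (k + 2) (by omega)
  have hw0 : ∀ z, w z = 0 := fun z => by
    obtain ⟨v, hv⟩ := hwr z
    rw [← hv, Subsingleton.elim v 0, map_zero]
  have hgJ : ∀ z, g (k + 1) ((φ (k + 1)).baseChange D (jmap l (k + 1) z)) ∈ J • (⊤ : Submodule D (Y (k + 1))) := by
    intro z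
    refine map_mem_smul_top J _ ?_
    revert htop
    rw [hk]
    exact fun htop => htop _
  have key : ∀ z, (c ^ (2 * l.length + M) * algebraMap A D s) • z ∈ J • (⊤ : Submodule D (Y (k + 1))) := by
    intro z
    have e := (hw z).symm.trans (hw0 z)
    rw [sub_eq_zero] at e
    simp only [u, LinearMap.sub_apply, LinearMap.comp_apply, LinearMap.smul_apply, LinearMap.id_apply,
      smul_sub, smul_smul, sub_eq_iff_eq_add] at e
    have e' : (c ^ (k + 1) * (c ^ (l.length + M) * algebraMap A D s)) • z =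
        c ^ (k + 1) • g (k + 1) ((φ (k + 1)).baseChange D (jmap l (k + 1) z)) - h (kd D D lD k z) := by
      rw [e]; abel
    rw [show c ^ (2 * l.length + M) * algebraMap A D s = c ^ (k + 1) * (c ^ (l.length + M) * algebraMap A D s) by
      rw [← hk, ← mul_assoc, ← pow_add]; ring_nf, e']
    exact sub_mem (Submodule.smul_mem _ _ (hgJ z))
      (map_mem_smul_top J h (Submodule.smul_mono_left hl (range_kd_le D D lD k ⟨z, rfl⟩)))
  have hk' : lD.length = k + 1 := hlen.trans hk
  have htopeq : ∃ τ : Y (k + 1) ≃ₗ[D] D, True := hk' ▸ ⟨top D D lD, trivial⟩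
  obtain ⟨τ, -⟩ := htopeq
  have := map_mem_smul_top J τ.toLinearMap (key (τ.symm 1))
  simpa only [map_smul, LinearEquiv.coe_coe, LinearEquiv.apply_symm_apply, smul_eq_mul, mul_one,
    Ideal.mul_top] using this

/-- The core: a chain map from the Koszul complex with top component in `mF`, together with a killer
`c` of the twisted Koszul homology, forces `c ^ (2d) ∈ 𝔪 D`. -/
theorem core {A D : Type u} [CommRing A] [CommRing D] [Algebra A D] (l : List A) (m : Ideal A)
    (hl : Ideal.ofList l ≤ m) {d : ℕ} (hd : l.length = d) (hd0 : 0 < d)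
    (X : ℕ → Type u) [∀ n, AddCommGroup (X n)] [∀ n, Module A (X n)] [∀ n, Module.Free A (X n)]
    (dX : ∀ n, X (n + 1) →ₗ[A] X n) (hX : ∀ n (z : X (n + 2)), dX n (dX (n + 1) z) = 0)
    (φ : ∀ n, KObj A A l n →ₗ[A] X n) (hφ : ∀ n z, dX n (φ (n + 1) z) = φ n (kd A A l n z))
    (ε : X 0 →ₗ[A] A) (hε1 : ε (φ 0 ((k0 A A l).symm 1)) - 1 ∈ Ideal.ofList l)
    (hε2 : ∀ z, ε (dX 0 z) ∈ Ideal.ofList l)
    (htop : ∀ z, φ d z ∈ m • (⊤ : Submodule A (X d))) (c : D)
    (hkill : Killed D D (l.map (algebraMap A D)) c) :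
    c ^ (2 * d) ∈ m.map (algebraMap A D) := by
  have := core' l (m.map (algebraMap A D)) (by rw [← Ideal.map_ofList]; exact Ideal.map_mono hl) hd hd0 X dX hX
    φ (fun n _ => hφ n) ε 1 0 c hε1 (fun z => by
      rw [pow_zero, one_mul, ← Ideal.map_ofList]; exact Ideal.mem_map_of_mem _ (hε2 z))
    (fun t => by
      induction t with
      | zero => simp
      | tmul a x =>
        rw [LinearMap.baseChange_tmul]
        refine Submodule.smul_induction_on (htop x) (fun r hr y _ => ?_) (fun y y' h1 h2 => ?_)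
        · rw [TensorProduct.tmul_smul, ← algebraMap_smul D r (a ⊗ₜ[A] y)]
          exact Submodule.smul_mem_smul (Ideal.mem_map_of_mem _ hr) trivial
        · rw [TensorProduct.tmul_add]; exact add_mem h1 h2
      | add a b ha hb => simp only [map_add]; exact add_mem ha hb) hkill
  simpa using this

end Groth.Agent.CanElt
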