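import Groth.Agent.S17972

/-! Coprime factorisations lift over a henselian local ring. -/

set_option autoImplicit false
set_option linter.style.haveILetI false
universe u

open IsLocalRing Polynomial

namespace Groth.Agent.CanElt

variable {S : Type u} [CommRing S] {n m : ℕ}

/-- The lower part of the first factor. -/
noncomputable def gLin (n m : ℕ) (S : Type u) [CommRing S] : (Fin (n + (m + 1)) → S) →ₗ[S] S[X] :=
  ∑ i : Fin n, (monomial (i : ℕ)).comp (LinearMap.proj (Fin.castAdd (m + 1) i))

/-- The second factor. -/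
noncomputable def hLin (n m : ℕ) (S : Type u) [CommRing S] : (Fin (n + (m + 1)) → S) →ₗ[S] S[X] :=
  ∑ j : Fin (m + 1), (monomial (j : ℕ)).comp (LinearMap.proj (Fin.natAdd n j))

theorem gLin_apply (a : Fin (n + (m + 1)) → S) :
    gLin n m S a = ∑ i : Fin n, monomial (i : ℕ) (a (Fin.castAdd (m + 1) i)) := by
  simp [gLin]

theorem hLin_apply (a : Fin (n + (m + 1)) → S) :
    hLin n m S a = ∑ j : Fin (m + 1), monomial (j : ℕ) (a (Fin.natAdd n j)) := by
  simp [hLin]

theorem gLin_eq_sum (v : Fin (n + (m + 1)) → S) :
    gLin n m S v = ∑ w, C (v w) * gLin n m S (Pi.single w 1) := by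
  conv_lhs => rw [pi_eq_sum_univ' v, map_sum]
  refine Finset.sum_congr rfl fun w _ => ?_
  rw [map_smul, smul_eq_C_mul]

theorem hLin_eq_sum (v : Fin (n + (m + 1)) → S) :
    hLin n m S v = ∑ w, C (v w) * hLin n m S (Pi.single w 1) := by
  conv_lhs => rw [pi_eq_sum_univ' v, map_sum]
  refine Finset.sum_congr rfl fun w _ => ?_
  rw [map_smul, smul_eq_C_mul]

theorem map_gLin {T : Type u} [CommRing T] (σ : S →+* T) (a : Fin (n + (m + 1)) → S) :
    (gLin n m S a).map σ = gLin n m T (σ ∘ a) := by
  rw [gLin_apply, gLin_apply, Polynomial.map_sum]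
  exact Finset.sum_congr rfl fun i _ => Polynomial.map_monomial σ

theorem map_hLin {T : Type u} [CommRing T] (σ : S →+* T) (a : Fin (n + (m + 1)) → S) :
    (hLin n m S a).map σ = hLin n m T (σ ∘ a) := by
  rw [hLin_apply, hLin_apply, Polynomial.map_sum]
  exact Finset.sum_congr rfl fun i _ => Polynomial.map_monomial σ

theorem degree_gLin_lt (a : Fin (n + (m + 1)) → S) : (gLin n m S a).degree < n := by
  rw [gLin_apply]
  exact (degree_sum_le _ _).trans_lt ((Finset.sup_lt_iff (WithBot.bot_lt_coe n)).mpr fun i _ =>
    (degree_monomial_le _ _).trans_lt (WithBot.coe_lt_coe.mpr i.2))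

theorem natDegree_hLin_le (a : Fin (n + (m + 1)) → S) : (hLin n m S a).natDegree ≤ m := by
  rw [hLin_apply]
  exact natDegree_sum_le_of_forall_le _ _ fun i _ => (natDegree_monomial_le _).trans (by omega)

/-- The system of equations. -/
noncomputable def sys {R : Type u} [CommRing R] (n m : ℕ) (f : R[X]) (k : Fin (n + (m + 1))) :
    MvPolynomial (Fin (n + (m + 1))) R :=
  ((X ^ n + gLin n m _ (fun i => MvPolynomial.X i)) * hLin n m _ (fun i => MvPolynomial.X i) -
    f.map MvPolynomial.C).coeff (k : ℕ)

theorem coeff_map_eval {R : Type u} [CommRing R] {ι : Type} (a : ι → R) (P : (MvPolynomial ι R)[X]) (j : ℕ) :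
    MvPolynomial.eval a (P.coeff j) = (P.map (MvPolynomial.eval a)).coeff j := (Polynomial.coeff_map _ _).symm

theorem eval_comp_X {R : Type u} [CommRing R] (a : Fin (n + (m + 1)) → R) :
    (⇑(MvPolynomial.eval a) ∘ fun i => (MvPolynomial.X i : MvPolynomial (Fin (n + (m + 1))) R)) = a :=
  funext fun i => MvPolynomial.eval_X i

theorem eval_sys {R : Type u} [CommRing R] (f : R[X]) (a : Fin (n + (m + 1)) → R) (k : Fin (n + (m + 1))) :
    MvPolynomial.eval a (sys n m f k) =
      ((X ^ n + gLin n m R a) * hLin n m R a - f).coeff (k : ℕ) := by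
  rw [sys, coeff_map_eval, Polynomial.map_sub, Polynomial.map_mul, Polynomial.map_add, Polynomial.map_pow,
    Polynomial.map_X, map_gLin, map_hLin, Polynomial.map_map, eval_comp_X,
    show (MvPolynomial.eval a).comp MvPolynomial.C = RingHom.id R from RingHom.ext fun r => MvPolynomial.eval_C r,
    Polynomial.map_id]

theorem eval_pderiv_gLin {R : Type u} [CommRing R] (a : Fin (n + (m + 1)) → R) (v : Fin (n + (m + 1))) (j : ℕ) :
    MvPolynomial.eval a (MvPolynomial.pderiv v
      (((X ^ n + gLin n m _ (fun i => MvPolynomial.X i)) : (MvPolynomial (Fin (n + (m + 1))) R)[X]).coeff j)) =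
      (gLin n m R (Pi.single v 1)).coeff j := by
  rw [coeff_add, map_add, map_add, coeff_X_pow]
  have h0 : MvPolynomial.eval a (MvPolynomial.pderiv v
      (if j = n then 1 else 0 : MvPolynomial (Fin (n + (m + 1))) R)) = 0 := by
    split <;> simp
  rw [h0, zero_add, gLin_apply, gLin_apply, finset_sum_coeff, finset_sum_coeff, map_sum, map_sum]
  refine Finset.sum_congr rfl fun i _ => ?_
  rw [coeff_monomial, coeff_monomial]
  split
  · rw [MvPolynomial.pderiv_X]
    by_cases hv : Fin.castAdd (m + 1) i = v
    · subst hv; simp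
    · rw [Pi.single_eq_of_ne hv, Pi.single_eq_of_ne hv]; simp
  · simp

theorem eval_pderiv_hLin {R : Type u} [CommRing R] (a : Fin (n + (m + 1)) → R) (v : Fin (n + (m + 1))) (j : ℕ) :
    MvPolynomial.eval a (MvPolynomial.pderiv v
      ((hLin n m (MvPolynomial (Fin (n + (m + 1))) R) (fun i => MvPolynomial.X i)).coeff j)) =
      (hLin n m R (Pi.single v 1)).coeff j := by
  rw [hLin_apply, hLin_apply, finset_sum_coeff, finset_sum_coeff, map_sum, map_sum]
  refine Finset.sum_congr rfl fun i _ => ?_
  rw [coeff_monomial, coeff_monomial]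
  split
  · rw [MvPolynomial.pderiv_X]
    by_cases hv : Fin.natAdd n i = v
    · subst hv; simp
    · rw [Pi.single_eq_of_ne hv, Pi.single_eq_of_ne hv]; simp
  · simp

theorem pderiv_sys {R : Type u} [CommRing R] (f : R[X]) (a : Fin (n + (m + 1)) → R)
    (k v : Fin (n + (m + 1))) :
    MvPolynomial.eval a (MvPolynomial.pderiv v (sys n m f k)) =
      (gLin n m R (Pi.single v 1) * hLin n m R a + (X ^ n + gLin n m R a) * hLin n m R (Pi.single v 1)).coeff
        (k : ℕ) := by
  rw [sys, coeff_sub, Polynomial.coeff_map, map_sub, MvPolynomial.pderiv_C, sub_zero, coeff_mul, coeff_add,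
    coeff_mul, coeff_mul, map_sum, map_sum, ← Finset.sum_add_distrib]
  refine Finset.sum_congr rfl fun x _ => ?_
  rw [MvPolynomial.pderiv_mul, map_add, map_mul, map_mul, eval_pderiv_gLin, eval_pderiv_hLin, coeff_map_eval,
    coeff_map_eval, Polynomial.map_add, Polynomial.map_pow, Polynomial.map_X, map_gLin, map_hLin, eval_comp_X]

theorem exists_factor_lift (R : Type u) [CommRing R] [HenselianLocalRing R]
    (f : R[X]) (g₀ h₀ : (ResidueField R)[X]) (hg : g₀.Monic)
    (hc : IsCoprime g₀ h₀) (hf : f.map (residue R) = g₀ * h₀) :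
    ∃ g h : R[X], f = g * h ∧ g.Monic ∧ g.map (residue R) = g₀ ∧ h.map (residue R) = h₀ := by
  classical
  let K := ResidueField R
  let n := g₀.natDegree
  let m := max f.natDegree n - n
  have hm : h₀.natDegree ≤ m := by
    rcases eq_or_ne h₀ 0 with h | h
    · simp [h]
    have e : (g₀ * h₀).natDegree = n + h₀.natDegree := natDegree_mul hg.ne_zero h
    rw [← hf] at e
    have := natDegree_map_le (f := residue R) (p := f)
    have := le_max_left f.natDegree n
    omega
  have hfdeg : f.natDegree ≤ n + m := by have := le_max_left f.natDegree n; omega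
  -- a lift of the coefficients
  let a₀ : Fin (n + (m + 1)) → R := Fin.append
    (fun i : Fin n => Function.surjInv (residue_surjective (R := R)) (g₀.coeff i))
    (fun j : Fin (m + 1) => Function.surjInv (residue_surjective (R := R)) (h₀.coeff j))
  have hres : ∀ x : K, residue R (Function.surjInv (residue_surjective (R := R)) x) = x :=
    Function.surjInv_eq _
  have hga : X ^ n + gLin n m K (residue R ∘ a₀) = g₀ := by
    conv_rhs => rw [hg.as_sum]
    rw [gLin_apply, ← Fin.sum_univ_eq_sum_range (fun i => C (g₀.coeff i) * X ^ i) n]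
    congr 1
    refine Finset.sum_congr rfl fun i _ => ?_
    simp [a₀, hres, C_mul_X_pow_eq_monomial]
  have hha : hLin n m K (residue R ∘ a₀) = h₀ := by
    conv_rhs => rw [h₀.as_sum_range' (m + 1) (by omega)]
    rw [hLin_apply, ← Fin.sum_univ_eq_sum_range (fun i => monomial i (h₀.coeff i)) (m + 1)]
    refine Finset.sum_congr rfl fun i _ => ?_
    simp [a₀, hres]
  obtain ⟨a, ha, hcong⟩ := Groth.Agent.S17972.result R (n + (m + 1)) (sys n m f) a₀ (fun k => by
      rw [eval_sys, ← residue_eq_zero_iff, ← Polynomial.coeff_map, Polynomial.map_sub, Polynomial.map_mul,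
        Polynomial.map_add, Polynomial.map_pow, Polynomial.map_X,
        map_gLin, map_hLin, hga, hha, hf, sub_self, coeff_zero]) (by
      rw [← isUnit_map_iff (residue R), RingHom.map_det, isUnit_iff_ne_zero]
      intro hdet
      obtain ⟨v, hv0, hv⟩ := Matrix.exists_mulVec_eq_zero_iff.mpr hdet
      have hentry : ∀ k w, residue R (MvPolynomial.eval a₀ (MvPolynomial.pderiv w (sys n m f k))) =
          (gLin n m K (Pi.single w 1) * h₀ + g₀ * hLin n m K (Pi.single w 1)).coeff (k : ℕ) := by
        intro k w
        have hs : (⇑(residue R) ∘ (Pi.single w (1 : R) : Fin (n + (m + 1)) → R)) = Pi.single w (1 : K) := by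
          funext i
          by_cases hi : i = w
          · subst hi; simp
          · simp [Pi.single_eq_of_ne hi]
        rw [pderiv_sys, ← Polynomial.coeff_map, Polynomial.map_add, Polynomial.map_mul, Polynomial.map_mul,
          Polynomial.map_add, Polynomial.map_pow, Polynomial.map_X, map_gLin, map_gLin, map_hLin, map_hLin,
          hga, hha, hs]
      let p : K[X] := gLin n m K v
      let q : K[X] := hLin n m K v
      have hsum : ∀ k : Fin (n + (m + 1)), (p * h₀ + g₀ * q).coeff (k : ℕ) = 0 := by
        intro k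
        have hk : (∑ w, residue R (MvPolynomial.eval a₀ (MvPolynomial.pderiv w (sys n m f k))) * v w) = 0 :=
          congrFun hv k
        rw [← hk]
        have hpe : p * h₀ + g₀ * q =
            ∑ w, C (v w) * (gLin n m K (Pi.single w 1) * h₀ + g₀ * hLin n m K (Pi.single w 1)) := by
          simp only [p, q]
          rw [gLin_eq_sum v, hLin_eq_sum v, Finset.sum_mul, Finset.mul_sum, ← Finset.sum_add_distrib]
          exact Finset.sum_congr rfl fun w _ => by ring
        rw [hpe, finset_sum_coeff]
        exact Finset.sum_congr rfl fun w _ => by rw [coeff_C_mul, hentry, mul_comm]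
      have hpd : p.degree < n := degree_gLin_lt v
      have hzero : p * h₀ + g₀ * q = 0 := by
        ext k
        rw [coeff_zero]
        rcases Nat.lt_or_ge k (n + (m + 1)) with hk | hk
        · exact hsum ⟨k, hk⟩
        · refine coeff_eq_zero_of_natDegree_lt (lt_of_le_of_lt (natDegree_add_le _ _) (max_lt ?_ ?_))
          · refine lt_of_le_of_lt natDegree_mul_le ?_
            have : p.natDegree ≤ n := natDegree_le_iff_degree_le.mpr hpd.le
            omega
          · refine lt_of_le_of_lt natDegree_mul_le ?_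
            have : q.natDegree ≤ m := natDegree_hLin_le v
            have : g₀.natDegree = n := rfl
            omega
      have hdvd : g₀ ∣ p := hc.dvd_of_dvd_mul_right ⟨-q, by rw [mul_neg]; exact eq_neg_of_add_eq_zero_left hzero⟩
      have hp : p = 0 := eq_zero_of_dvd_of_degree_lt hdvd (hpd.trans_le (degree_eq_natDegree hg.ne_zero).ge)
      have hq : q = 0 := by
        rw [hp, zero_mul, zero_add] at hzero
        exact (mul_eq_zero.mp hzero).resolve_left hg.ne_zero
      refine hv0 (funext fun w => ?_)
      refine Fin.addCases (fun i => ?_) (fun j => ?_) w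
      · have := congrArg (fun P => Polynomial.coeff P (i : ℕ)) hp
        simpa [p, gLin_apply, coeff_monomial, Fin.val_inj, eq_comm] using this
      · have := congrArg (fun P => Polynomial.coeff P (j : ℕ)) hq
        simpa [q, hLin_apply, coeff_monomial, Fin.val_inj, eq_comm] using this)
  have hra : residue R ∘ a = residue R ∘ a₀ := funext fun j => sub_eq_zero.mp (by
    rw [Function.comp_apply, Function.comp_apply, ← map_sub]; exact (residue_eq_zero_iff _).mpr (hcong j))
  have hgm : (X ^ n + gLin n m R a).Monic := monic_X_pow_add (degree_gLin_lt a)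
  refine ⟨X ^ n + gLin n m R a, hLin n m R a, (sub_eq_zero.mp (Polynomial.ext fun k => ?_)).symm, hgm,
    by rw [Polynomial.map_add, Polynomial.map_pow, Polynomial.map_X, map_gLin, hra, hga],
    by rw [map_hLin, hra, hha]⟩
  rw [coeff_zero]
  rcases Nat.lt_or_ge k (n + (m + 1)) with hk | hk
  · rw [← ha ⟨k, hk⟩, eval_sys]
  · refine coeff_eq_zero_of_natDegree_lt (lt_of_le_of_lt (natDegree_sub_le _ _) (max_lt ?_ (by omega)))
    refine lt_of_le_of_lt natDegree_mul_le ?_
    have h1 : (X ^ n + gLin n m R a).natDegree ≤ n :=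
      (natDegree_add_le _ _).trans (max_le (natDegree_X_pow_le n)
        (natDegree_le_iff_degree_le.mpr (degree_gLin_lt a).le))
    have := natDegree_hLin_le a
    omega

end Groth.Agent.CanElt
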