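import Groth.Agent.Lib.CanElt.NIT
import Groth.Agent.Lib.DMod.Homology
import Mathlib.RingTheory.TensorProduct.Nontrivial
import Mathlib.LinearAlgebra.Dual.Lemmas
import Mathlib.CategoryTheory.Abelian.Projective.Dimension
import Mathlib.Algebra.Category.ModuleCat.Projective

/-! New intersection theorem and intersection theorem in prime characteristic. -/

set_option autoImplicit false
set_option linter.style.haveILetI false
universe u

open IsLocalRing TensorProduct CategoryTheory

namespace Groth.Agent.CanElt

theorem exists_dim (A : Type u) [CommRing A] [IsNoetherianRing A] [IsLocalRing A] :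
    ∃ d : ℕ, ringKrullDim A = d := by
  obtain ⟨d, hd⟩ : ∃ d : ℕ, (maximalIdeal A).height = d :=
    ENat.ne_top_iff_exists.mp ((maximalIdeal A).height_ne_top (maximalIdeal.isMaximal A).ne_top) |>.imp fun _ h => h.symm
  exact ⟨d, by rw [← maximalIdeal_height_eq_ringKrullDim, hd]; rfl⟩

/-- A proper submodule containing `mM` of a finite free module over a local ring lies in `ε⁻¹ m`
for a functional `ε` taking the value one. -/
theorem exists_functional {A : Type u} [CommRing A] [IsLocalRing A] {M : Type u} [AddCommGroup M]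
    [Module A M] [Module.Free A M] [Module.Finite A M] (S : Submodule A M) (hS : S ≠ ⊤)
    (hmS : maximalIdeal A • (⊤ : Submodule A M) ≤ S) :
    ∃ (z : M) (ε : M →ₗ[A] A), ε z = 1 ∧ ∀ w ∈ S, ε w ∈ maximalIdeal A := by
  classical
  let ι := Module.Free.ChooseBasisIndex A M
  let b := Module.Free.chooseBasis A M
  let K := ResidueField A
  let π : M → ι → K := fun w i => residue A (b.repr w i)
  have hπadd : ∀ v w, π (v + w) = π v + π w := fun v w => funext fun i => by simp [π]
  have hπsmul : ∀ (a : A) w, π (a • w) = residue A a • π w := fun a w => funext fun i => by simp [π]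
  have hker : ∀ w, π w = 0 → w ∈ maximalIdeal A • (⊤ : Submodule A M) := fun w hw => by
    rw [← b.sum_repr w]
    exact sum_mem fun i _ => Submodule.smul_mem_smul
      ((residue_eq_zero_iff _).mp (congrFun hw i)) trivial
  let S' : Submodule K (ι → K) :=
    { carrier := π '' S
      add_mem' := by
        rintro _ _ ⟨v, hv, rfl⟩ ⟨w, hw, rfl⟩
        exact ⟨v + w, add_mem hv hw, hπadd v w⟩
      zero_mem' := ⟨0, zero_mem S, funext fun i => by simp [π]⟩
      smul_mem' := by
        rintro r _ ⟨w, hw, rfl⟩
        obtain ⟨a, rfl⟩ := residue_surjective (R := A) r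
        exact ⟨a • w, S.smul_mem a hw, hπsmul a w⟩ }
  have hS' : S' < ⊤ := by
    refine lt_top_iff_ne_top.mpr fun h => hS (eq_top_iff.mpr fun z _ => ?_)
    obtain ⟨w, hw, e⟩ : π z ∈ π '' (S : Set M) := (h ▸ Submodule.mem_top : π z ∈ S')
    have : z - w ∈ S := hmS (hker _ (by
      have := hπadd (z - w) w
      rw [sub_add_cancel, e, eq_comm, add_eq_right] at this
      exact this))
    simpa using add_mem this hw
  obtain ⟨f, hf0, hf⟩ := Submodule.exists_dual_map_eq_bot_of_lt_top hS' inferInstance
  choose a ha using fun i => residue_surjective (R := A) (f (Pi.single i 1))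
  let ε := ∑ i, a i • b.coord i
  have hε : ∀ w, residue A (ε w) = f (π w) := fun w => by
    conv_rhs => rw [pi_eq_sum_univ (π w)]
    simp only [ε, LinearMap.coe_sum, Finset.sum_apply, LinearMap.smul_apply, Module.Basis.coord_apply,
      map_sum, map_smul, smul_eq_mul, map_mul, ha]
    refine Finset.sum_congr rfl fun i _ => ?_
    rw [mul_comm]
    congr 2
    funext j
    simp [Pi.single_apply, eq_comm]
  obtain ⟨v, hv⟩ : ∃ v, f v = 1 := LinearMap.surjective hf0 1
  let z := ∑ i, Function.surjInv (residue_surjective (R := A)) (v i) • b i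
  have hz : π z = v := funext fun i => by
    simp [π, z, Finsupp.single_apply, Function.surjInv_eq]
  have hu : IsUnit (ε z) := notMem_maximalIdeal.mp fun h => one_ne_zero (α := K) (by
    rw [← hv, ← hz, ← hε, (residue_eq_zero_iff _).mpr h])
  refine ⟨(hu.unit⁻¹ : Aˣ).1 • z, ε, by rw [map_smul, smul_eq_mul, IsUnit.val_inv_mul], fun w hw => ?_⟩
  rw [← residue_eq_zero_iff, hε]
  exact (Submodule.eq_bot_iff _).mp hf _ ⟨π w, ⟨w, hw, rfl⟩, rfl⟩

theorem exists_pow_smul_eq_zero {A : Type u} [CommRing A] [IsLocalRing A] [IsNoetherianRing A] (M : Type u)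
    [AddCommGroup M] [Module A M] (h : IsFiniteLength A M) :
    ∃ N : ℕ, ∀ a ∈ maximalIdeal A ^ N, ∀ m : M, a • m = 0 := by
  obtain ⟨_, _⟩ := isFiniteLength_iff_isNoetherian_isArtinian.mp h
  obtain ⟨N, hN⟩ := IsArtinian.monotone_stabilizes
    ⟨fun n => OrderDual.toDual (maximalIdeal A ^ n • (⊤ : Submodule A M)), fun a b hab =>
      Submodule.smul_mono_left (Ideal.pow_le_pow_right hab)⟩
  have e : maximalIdeal A ^ N • (⊤ : Submodule A M) = maximalIdeal A • (maximalIdeal A ^ N • ⊤) := by
    rw [← Submodule.mul_smul, ← pow_succ']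
    exact OrderDual.toDual.injective (hN (N + 1) (Nat.le_succ N))
  have h0 := Submodule.eq_bot_of_le_smul_of_le_jacobson_bot (maximalIdeal A) _ (IsNoetherian.noetherian _) e.le
    (maximalIdeal_le_jacobson _)
  exact ⟨N, fun a ha m => (Submodule.eq_bot_iff _).mp h0 _ (Submodule.smul_mem_smul ha trivial)⟩

theorem new_intersection (A : Type u) [CommRing A] [IsNoetherianRing A] [IsLocalRing A]
    (p : ℕ) [Fact p.Prime] [CharP A p]
    (F : ChainComplex (ModuleCat.{u} A) ℕ) (k : ℕ)
    (hbd : ∀ i, k < i → Limits.IsZero (F.X i))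
    (hfree : ∀ i, Module.Free A (F.X i) ∧ Module.Finite A (F.X i))
    (hfl : ∀ i, IsFiniteLength A (F.homology i)) (hne : ∃ i, ¬ Limits.IsZero (F.homology i)) :
    ringKrullDim A ≤ (k : WithBot ℕ∞) := by
  classical
  haveI : ∀ i, Module.Free A (F.X i) := fun i => (hfree i).1
  haveI : ∀ i, Module.Finite A (F.X i) := fun i => (hfree i).2
  obtain ⟨d, hd⟩ := exists_dim A
  rw [hd]
  set j := Nat.find hne with hj
  have hprev : ∀ i, (ComplexShape.down ℕ).prev i = i + 1 := fun i => ChainComplex.prev _ i
  have hnext : ∀ i, (ComplexShape.down ℕ).next i = i - 1 := fun i => by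
    cases i with
    | zero => exact ChainComplex.next_nat_zero
    | succ n => exact ChainComplex.next_nat_succ n
  have hzero : ∀ i, k < i → Subsingleton (F.X i) := fun i hi => ModuleCat.subsingleton_of_isZero (hbd i hi)
  have hjk : j ≤ k := by
    by_contra hjk
    refine Nat.find_spec hne ((DMod.isZero_iff_subsingleton _).mpr
      ((DMod.subsingleton_homology_iff F (hprev j) (hnext j)).mpr fun x _ => ⟨0, ?_⟩))
    haveI := hzero j (by omega)
    exact Subsingleton.elim _ _
  have hproj : ∀ i ≤ j, Module.Projective A (LinearMap.ker (F.d i (i - 1)).hom) := by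
    intro i hi
    induction i with
    | zero =>
      rw [F.shape 0 0 (by simp)]
      rw [show LinearMap.ker (0 : F.X 0 ⟶ F.X (0 - 1)).hom = ⊤ from LinearMap.ker_zero]
      exact Module.Projective.of_equiv Submodule.topEquiv.symm
    | succ n ih =>
      haveI := ih (Nat.le_of_succ_le hi)
      let g : F.X (n + 1) →ₗ[A] LinearMap.ker (F.d n (n - 1)).hom :=
        (F.d (n + 1) n).hom.codRestrict _ fun w => ConcreteCategory.congr_hom (F.d_comp_d (n + 1) n (n - 1)) w
      have hex := (DMod.subsingleton_homology_iff F (hprev n) (hnext n)).mp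
        (ModuleCat.subsingleton_of_isZero (not_not.mp (Nat.find_min hne (show n < j by omega))))
      have hgs : Function.Surjective g := fun y => by
        obtain ⟨w, hw⟩ := hex y.1 y.2
        exact ⟨w, Subtype.ext hw⟩
      obtain ⟨s, hs⟩ := Module.projective_lifting_property g LinearMap.id hgs
      have hker : LinearMap.ker (F.d (n + 1) (n + 1 - 1)).hom = LinearMap.ker g :=
        (LinearMap.ker_codRestrict _ _ _).symm
      rw [hker]
      let r : F.X (n + 1) →ₗ[A] LinearMap.ker g :=
        ((LinearMap.id : F.X (n + 1) →ₗ[A] F.X (n + 1)) - s ∘ₗ g).codRestrict _ fun w => by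
          have h1 : g (s (g w)) = g w := LinearMap.congr_fun hs (g w)
          rw [LinearMap.mem_ker, LinearMap.sub_apply, map_sub, LinearMap.id_apply, LinearMap.comp_apply, h1, sub_self]
      refine Module.Projective.of_split (LinearMap.ker g).subtype r (LinearMap.ext fun w => Subtype.ext ?_)
      have hw : g (w : F.X (n + 1)) = 0 := LinearMap.mem_ker.mp w.2
      change (w : F.X (n + 1)) - s (g (w : F.X (n + 1))) = (w : F.X (n + 1))
      rw [hw, map_zero, sub_zero]
  let Z := LinearMap.ker (F.d j (j - 1)).hom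
  haveI := hproj j le_rfl
  haveI : Module.Free A Z := Module.free_of_flat_of_isLocalRing
  let X : ℕ → ModuleCat.{u} A := fun n => match n with
    | 0 => ModuleCat.of A Z
    | m + 1 => F.X (j + (m + 1))
  haveI : ∀ n, Module.Free A (X n) := fun n => by
    cases n with
    | zero => exact inferInstanceAs (Module.Free A Z)
    | succ m => exact (hfree _).1
  let dX : ∀ n, X (n + 1) →ₗ[A] X n := fun n => match n with
    | 0 => (F.d (j + 1) j).hom.codRestrict Z fun w =>
        ConcreteCategory.congr_hom (F.d_comp_d (j + 1) j (j - 1)) w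
    | m + 1 => (F.d (j + (m + 2)) (j + (m + 1))).hom
  have hX : ∀ n (w : X (n + 2)), dX n (dX (n + 1) w) = 0 := fun n w => by
    cases n with
    | zero => exact Subtype.ext (ConcreteCategory.congr_hom (F.d_comp_d (j + 2) (j + 1) j) w)
    | succ m => exact ConcreteCategory.congr_hom (F.d_comp_d (j + (m + 3)) (j + (m + 2)) (j + (m + 1))) w
  choose N hN using fun i => exists_pow_smul_eq_zero (F.homology i) (hfl i)
  let N0 := (Finset.range (k + 1)).sup N
  have hbound : ∀ i (w : F.X i), F.d i (i - 1) w = 0 → ∀ a ∈ maximalIdeal A ^ N0,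
      ∃ v, F.d (i + 1) i v = a • w := by
    intro i w hw a ha
    rcases Nat.lt_or_ge k i with hki | hik
    · haveI := hzero i hki
      exact ⟨0, Subsingleton.elim _ _⟩
    obtain ⟨t, rfl⟩ := DMod.exists_cycle (hnext i) w hw
    obtain ⟨v, hv⟩ := (DMod.homologyπ_eq_zero_iff (hprev i) (a • t)).mp (by
      rw [map_smul]
      exact hN i a (Ideal.pow_le_pow_right (Finset.le_sup (Finset.mem_range_succ_iff.mpr hik)) ha) _)
    exact ⟨v, hv.trans (map_smul _ _ _)⟩
  have hS : LinearMap.range (dX 0) ⊔ maximalIdeal A • (⊤ : Submodule A Z) ≠ ⊤ := by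
    intro h
    have : LinearMap.range (dX 0) = ⊤ :=
      top_le_iff.mp (Submodule.le_of_le_smul_of_le_jacobson_bot Module.Finite.fg_top
        (maximalIdeal_le_jacobson _) h.ge)
    refine Nat.find_spec hne ((DMod.isZero_iff_subsingleton _).mpr
      ((DMod.subsingleton_homology_iff F (hprev j) (hnext j)).mpr fun x hx => ?_))
    obtain ⟨w, hw⟩ := (this.ge (Submodule.mem_top : (⟨x, hx⟩ : Z) ∈ ⊤))
    exact ⟨w, congrArg Subtype.val hw⟩
  obtain ⟨z, ε, hεz, hεS⟩ := exists_functional _ hS le_sup_right
  have := improved_nit A p d hd (fun n => X n) dX hX (k - j) (fun i hi => by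
      cases i with
      | zero => omega
      | succ m => exact hzero _ (by omega)) z ε hεz (fun w => hεS _ (Submodule.mem_sup_left ⟨w, rfl⟩)) N0
    (fun a ha => by
      obtain ⟨v, hv⟩ := hbound j (z : Z).1 (z : Z).2 a ha
      exact ⟨v, Subtype.ext hv⟩)
    (fun n w hw a ha => by
      have hw' : F.d (j + (n + 1)) (j + (n + 1) - 1) w = 0 := by
        cases n with
        | zero => exact congrArg Subtype.val hw
        | succ m => exact hw
      obtain ⟨v, hv⟩ := hbound _ w hw' a ha
      exact ⟨v, hv⟩)
  exact_mod_cast this.trans (Nat.sub_le k j)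

/-- A finite free resolution of length `n` for a finite module of projective dimension at most `n`. -/
theorem exists_resolution {A : Type u} [CommRing A] [IsNoetherianRing A] [IsLocalRing A] :
    ∀ (n : ℕ) (M : Type u) [AddCommGroup M] [Module A M] [Module.Finite A M],
      HasProjectiveDimensionLT (ModuleCat.of A M) (n + 1) →
    ∃ (X : ℕ → ModuleCat.{u} A) (dX : ∀ i, X (i + 1) →ₗ[A] X i) (π : X 0 →ₗ[A] M),
      (∀ i, Module.Free A (X i)) ∧ (∀ i, Module.Finite A (X i)) ∧ (∀ i, n < i → Subsingleton (X i)) ∧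
      Function.Surjective π ∧ (∀ w, π w = 0 ↔ w ∈ LinearMap.range (dX 0)) ∧
      (∀ i w, dX i (dX (i + 1) w) = 0) ∧ ∀ i w, dX i w = 0 → w ∈ LinearMap.range (dX (i + 1))
  | 0, M, _, _, _, h => by
    haveI : Module.Projective A M := (IsProjective.iff_projective M).mpr
      (projective_iff_hasProjectiveDimensionLT_one.mpr h)
    haveI : Module.Free A M := Module.free_of_flat_of_isLocalRing
    let X : ℕ → ModuleCat.{u} A := fun i => match i with
      | 0 => ModuleCat.of A M
      | _ + 1 => ModuleCat.of A PUnit.{u + 1}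
    refine ⟨X, fun _ => 0, LinearMap.id, fun i => ?_, fun i => ?_, fun i hi => ?_, fun y => ⟨y, rfl⟩,
      fun w => ?_, fun i w => rfl, fun i w _ => ?_⟩
    · cases i with
      | zero => exact inferInstanceAs (Module.Free A M)
      | succ m => exact inferInstanceAs (Module.Free A PUnit.{u + 1})
    · cases i with
      | zero => exact inferInstanceAs (Module.Finite A M)
      | succ m => exact inferInstanceAs (Module.Finite A PUnit.{u + 1})
    · cases i with
      | zero => omega
      | succ m => exact inferInstanceAs (Subsingleton PUnit)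
    · rw [LinearMap.range_zero, Submodule.mem_bot]; exact Iff.rfl
    · exact ⟨0, Subsingleton.elim (h := inferInstanceAs (Subsingleton PUnit)) _ _⟩
  | n + 1, M, _, _, _, h => by
    obtain ⟨m, π, hπ⟩ := Module.Finite.exists_fin' A M
    let S : ShortComplex (ModuleCat.{u} A) := ModuleCat.shortComplexOfCompEqZero
      π.ker.subtype π (LinearMap.exact_subtype_ker_map π).linearMap_comp_eq_zero
    have hS : S.ShortExact := ModuleCat.shortComplex_shortExact S
      (LinearMap.exact_subtype_ker_map π) π.ker.injective_subtype hπ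
    have hP : Projective S.X₂ := (IsProjective.iff_projective (P := Fin m → A)).1 inferInstance
    have hK : HasProjectiveDimensionLT (ModuleCat.of A π.ker) (n + 1) :=
      (hS.hasProjectiveDimensionLT_X₃_iff n hP).mp h
    obtain ⟨X', dX', π', hfree', hfin', hbd', hπ', hker', hd', hex'⟩ := exists_resolution n π.ker hK
    let X : ℕ → ModuleCat.{u} A := fun i => match i with
      | 0 => ModuleCat.of A (Fin m → A)
      | j + 1 => X' j
    let dX : ∀ i, X (i + 1) →ₗ[A] X i := fun i => match i with
      | 0 => π.ker.subtype ∘ₗ π'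
      | j + 1 => dX' j
    refine ⟨X, dX, π, fun i => ?_, fun i => ?_, fun i hi => ?_, hπ, fun w => ⟨fun hw => ?_, ?_⟩, fun i w => ?_,
      fun i w hw => ?_⟩
    · cases i with
      | zero => exact inferInstanceAs (Module.Free A (Fin m → A))
      | succ j => exact hfree' j
    · cases i with
      | zero => exact inferInstanceAs (Module.Finite A (Fin m → A))
      | succ j => exact hfin' j
    · cases i with
      | zero => omega
      | succ j => exact hbd' j (by omega)
    · obtain ⟨v, hv⟩ := hπ' ⟨w, hw⟩
      exact ⟨v, congrArg Subtype.val hv⟩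
    · rintro ⟨v, rfl⟩
      exact (π' v).2
    · cases i with
      | zero => exact congrArg Subtype.val ((hker' (dX' 0 w)).mpr ⟨w, rfl⟩)
      | succ j => exact hd' j w
    · cases i with
      | zero => exact (hker' w).mp (Subtype.ext hw)
      | succ j => exact hex' j w hw

/-- The intersection theorem in prime characteristic. -/
theorem intersection (A : Type u) [CommRing A] [IsNoetherianRing A] [IsLocalRing A]
    (p : ℕ) [Fact p.Prime] [CharP A p]
    (M N : Type u) [AddCommGroup M] [Module A M] [Module.Finite A M] [Nontrivial M]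
    [AddCommGroup N] [Module A N] [Module.Finite A N]
    (n : ℕ) (hpd : HasProjectiveDimensionLT (ModuleCat.of A M) (n + 1))
    (hfl : IsFiniteLength A (M ⊗[A] N)) :
    Module.supportDim A N ≤ (n : WithBot ℕ∞) := by
  obtain ⟨X, dX, π, hfree, hfin, hbd, hπ, hker, hd2, hex⟩ := exists_resolution n M hpd
  obtain ⟨Nf, hNf⟩ := exists_pow_smul_eq_zero (M ⊗[A] N) hfl
  refine iSup_le fun l => ?_
  let Q := (l.head : PrimeSpectrum A).asIdeal
  let B := A ⧸ Q
  -- the power of the maximal ideal
  have hrad : maximalIdeal A ≤ (Module.annihilator A M ⊔ Q).radical := by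
    rw [Ideal.radical_eq_sInf]
    refine le_sInf fun P ⟨hP, hPp⟩ => ?_
    let P' : PrimeSpectrum A := ⟨P, hPp⟩
    have hM : P' ∈ Module.support A M := Module.mem_support_iff_of_finite.mpr (le_sup_left.trans hP)
    have hN : P' ∈ Module.support A N :=
      Module.mem_support_mono (show (l.head : PrimeSpectrum A) ≤ P' from le_sup_right.trans hP) l.head.2
    have hMN : P' ∈ Module.support A (M ⊗[A] N) := by
      rw [Module.mem_support_iff_nontrivial_residueField_tensorProduct] at hM hN ⊢
      obtain ⟨v, hv⟩ := exists_ne (0 : P'.asIdeal.ResidueField ⊗[A] M)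
      haveI := TensorProduct.nontrivial_of_linearMap_injective_of_flat_right P'.asIdeal.ResidueField
        (P'.asIdeal.ResidueField ⊗[A] M) (P'.asIdeal.ResidueField ⊗[A] N)
        (LinearMap.toSpanSingleton P'.asIdeal.ResidueField (P'.asIdeal.ResidueField ⊗[A] M) v) (smul_left_injective _ hv)
      exact (AlgebraTensorModule.distribBaseChange A P'.asIdeal.ResidueField M N).toEquiv.nontrivial
    intro a ha
    refine hPp.mem_of_pow_mem Nf (Module.mem_support_iff_of_finite.mp hMN ?_)
    exact Module.mem_annihilator.mpr fun x => hNf _ (Ideal.pow_mem_pow ha Nf) x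
  obtain ⟨N0, hN0⟩ := Ideal.exists_pow_le_of_le_radical_of_fg hrad (IsNoetherian.noetherian _)
  haveI : Nontrivial B := Ideal.Quotient.nontrivial_iff.mpr (l.head : PrimeSpectrum A).2.ne_top
  haveI : IsLocalRing B := IsLocalRing.of_surjective' _ Ideal.Quotient.mk_surjective
  have hmB : maximalIdeal B = (maximalIdeal A).map (Ideal.Quotient.mk Q) :=
    (IsLocalRing.map_maximalIdeal_of_surjective _ Ideal.Quotient.mk_surjective).symm
  haveI : CharP B p := by
    refine (CharP.charP_iff_prime_eq_zero Fact.out).mpr ?_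
    rw [← map_natCast (Ideal.Quotient.mk Q), CharP.cast_eq_zero, map_zero]
  obtain ⟨d, hd⟩ := exists_dim B
  -- homotopies for annihilators
  haveI : ∀ i, Module.Free A (X i) := hfree
  haveI : ∀ i, Module.Finite A (X i) := hfin
  have hhom : ∀ a ∈ Module.annihilator A M, ∀ i, ∃ s : X i →ₗ[A] X (i + 1),
      (∀ w, dX i (s w) - a • w ∈ LinearMap.range (dX i) ∨ True) ∧
      (match i with
        | 0 => ∀ w, dX 0 (s w) = a • w
        | j + 1 => ∃ s' : X j →ₗ[A] X (j + 1), ∀ w, dX (j + 1) (s w) = a • w - s' (dX j w)) := by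
    intro a ha i
    induction i with
    | zero =>
      have hr : ∀ w : X 0, a • w ∈ LinearMap.range (dX 0) := fun w => (hker _).mp (by
        rw [map_smul]; exact Module.mem_annihilator.mp ha _)
      obtain ⟨s, hs⟩ := Module.projective_lifting_property (dX 0).rangeRestrict
        ((a • LinearMap.id).codRestrict _ hr) (dX 0).surjective_rangeRestrict
      exact ⟨s, fun w => Or.inr trivial, fun w => congrArg Subtype.val (LinearMap.congr_fun hs w)⟩
    | succ j ih =>
      obtain ⟨s', -, hs'⟩ := ih
      have hcyc : ∀ w, dX j (a • w - s' (dX j w)) = 0 := by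
        intro w
        cases j with
        | zero => rw [map_sub, map_smul, hs', sub_self]
        | succ m =>
          obtain ⟨s'', hs''⟩ := hs'
          rw [map_sub, map_smul, hs'', hd2, map_zero, sub_zero, sub_self]
      obtain ⟨s, hs⟩ := Module.projective_lifting_property (dX (j + 1)).rangeRestrict
        ((a • LinearMap.id - s' ∘ₗ dX j).codRestrict _ fun w => hex j _ (hcyc w))
        (dX (j + 1)).surjective_rangeRestrict
      exact ⟨s, fun w => Or.inr trivial, s', fun w => congrArg Subtype.val (LinearMap.congr_fun hs w)⟩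
  let Y : ℕ → Type u := fun i => B ⊗[A] X i
  let dY : ∀ i, Y (i + 1) →ₗ[B] Y i := fun i => (dX i).baseChange B
  have hY : ∀ i (w : Y (i + 2)), dY i (dY (i + 1) w) = 0 := fun i w => by
    show (dX i).baseChange B ((dX (i + 1)).baseChange B w) = 0
    rw [← LinearMap.comp_apply, ← LinearMap.baseChange_comp,
      show dX i ∘ₗ dX (i + 1) = 0 from LinearMap.ext (hd2 i), LinearMap.baseChange_zero, LinearMap.zero_apply]
  have hlift : ∀ b ∈ maximalIdeal B ^ N0, ∃ a ∈ Module.annihilator A M, algebraMap A B a = b := by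
    intro b hb
    rw [hmB, ← Ideal.map_pow] at hb
    obtain ⟨a, ha, rfl⟩ := (Ideal.mem_map_iff_of_surjective _ Ideal.Quotient.mk_surjective).mp hb
    obtain ⟨a₁, ha₁, a₂, ha₂, rfl⟩ := Submodule.mem_sup.mp (hN0 ha)
    refine ⟨a₁, ha₁, ?_⟩
    rw [map_add, Ideal.Quotient.eq_zero_iff_mem.mpr ha₂, add_zero]
    rfl
  have hS : LinearMap.range (dX 0) ⊔ maximalIdeal A • (⊤ : Submodule A (X 0)) ≠ ⊤ := by
    intro h
    have h' : LinearMap.range (dX 0) = ⊤ := top_le_iff.mp (Submodule.le_of_le_smul_of_le_jacobson_bot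
      Module.Finite.fg_top (maximalIdeal_le_jacobson _) h.ge)
    obtain ⟨y, hy⟩ := exists_ne (0 : M)
    obtain ⟨w, rfl⟩ := hπ y
    exact hy ((hker w).mpr (h' ▸ trivial))
  obtain ⟨z, ε, hεz, hεS⟩ := exists_functional _ hS le_sup_right
  let εB : Y 0 →ₗ[B] B := (AlgebraTensorModule.rid A B B).toLinearMap ∘ₗ ε.baseChange B
  have hεB : ∀ (b : B) (x : X 0), εB (b ⊗ₜ x) = algebraMap A B (ε x) * b := fun b x => by
    change (AlgebraTensorModule.rid A B B) (ε.baseChange B (b ⊗ₜ[A] x)) = _
    rw [LinearMap.baseChange_tmul, AlgebraTensorModule.rid_tmul, Algebra.smul_def]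
  have key := improved_nit B p d hd Y dY hY n (fun i hi => by haveI := hbd i hi; infer_instance)
    ((1 : B) ⊗ₜ z) εB (by rw [hεB, hεz, map_one, mul_one]) (fun w => by
      induction w using TensorProduct.induction_on with
      | zero => simp only [map_zero]; exact zero_mem _
      | tmul b x =>
        simp only [dY, LinearMap.baseChange_tmul, hεB]
        exact Ideal.mul_mem_right _ _ (hmB ▸ Ideal.mem_map_of_mem _ (hεS _ (Submodule.mem_sup_left ⟨x, rfl⟩)))
      | add x y hx hy => simp only [map_add]; exact add_mem hx hy) N0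
    (fun b hb => by
      obtain ⟨a, ha, rfl⟩ := hlift b hb
      obtain ⟨s, -, hs⟩ := hhom a ha 0
      refine ⟨(1 : B) ⊗ₜ s z, ?_⟩
      show (dX 0).baseChange B _ = _
      rw [LinearMap.baseChange_tmul, hs, algebraMap_smul, TensorProduct.tmul_smul])
    (fun i w hw b hb => by
      obtain ⟨a, ha, rfl⟩ := hlift b hb
      obtain ⟨s, -, s', hs⟩ := hhom a ha (i + 1)
      refine ⟨s.baseChange B w, ?_⟩
      have e : dX (i + 1) ∘ₗ s = a • LinearMap.id - s' ∘ₗ dX i := LinearMap.ext hs
      show (dX (i + 1)).baseChange B _ = _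
      rw [← LinearMap.comp_apply, ← LinearMap.baseChange_comp, e, LinearMap.baseChange_sub,
        LinearMap.baseChange_smul, LinearMap.baseChange_id, LinearMap.baseChange_comp]
      simp only [dY] at hw
      simp [hw])
  have hlen : (l.length : WithBot ℕ∞) ≤ ringKrullDim B := by
    rw [ringKrullDim_quotient, Order.le_krullDim_iff]
    exact ⟨⟨l.length, fun i => ⟨(l i).1, fun x hx => (LTSeries.head_le l i) hx⟩, fun i => l.step i⟩, rfl⟩
  rw [hd] at hlen
  exact hlen.trans (by exact_mod_cast key)

end Groth.Agent.CanElt
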